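import Cfsg.Agent.EqLemmas
import Cfsg.Agent.S0144
import Cfsg.Agent.Lib.CentreFreeThree.Rad
import Cfsg.Agent.Lib.Hamiltonian.Basic

/-!
# Groups in which small non-subnormal subgroups have maximal normalizers

* `Hyp`: trivial radical and every nontrivial subgroup of order divisible by at most two primes has a
  maximal normalizer
* `cent_eq_nrm`: an involution and an odd element commuting with it
* `cent_solvable`, `zpowers_conj_sylow`: the structure of the centralizer of an involution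
-/

set_option autoImplicit false
set_option linter.unusedSectionVars false
set_option linter.style.haveILetI false

open Subgroup
open scoped commutatorElement

namespace Cfsg.Agent.MaxNormalizers

variable {G : Type*} [Group G]

/-- the normalizer of a subgroup -/
local notation "nrm" H:max => Subgroup.normalizer (SetLike.coe H)

/-- the centralizer of one element -/
local notation "cent" x:max => Subgroup.centralizer ({x} : Set _)

/-- at most two prime divisors -/
def TwoPrimes (n : ℕ) : Prop :=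
  ∃ p q : ℕ, p.Prime ∧ q.Prime ∧ ∀ r : ℕ, r.Prime → r ∣ n → r = p ∨ r = q

theorem twoPrimes_pow {p : ℕ} (hp : p.Prime) {n k : ℕ} (h : n ∣ p ^ k) : TwoPrimes n :=
  ⟨p, p, hp, hp, fun _ hr hd => Or.inl ((Nat.prime_dvd_prime_iff_eq hr hp).1 (hr.dvd_of_dvd_pow (hd.trans h)))⟩

theorem twoPrimes_pGroup [Finite G] {p : ℕ} [Fact p.Prime] {H : Subgroup G} (h : IsPGroup p H) :
    TwoPrimes (Nat.card H) := by
  obtain ⟨k, hk⟩ := IsPGroup.iff_card.1 h
  exact twoPrimes_pow Fact.out (dvd_of_eq hk)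

theorem twoPrimes_mul {p q : ℕ} (hp : p.Prime) (hq : q.Prime) {n a b : ℕ} (h : n ∣ p ^ a * q ^ b) :
    TwoPrimes n :=
  ⟨p, q, hp, hq, fun _ hr hd => ((Nat.Prime.dvd_mul hr).1 (hd.trans h)).imp
    (fun e => (Nat.prime_dvd_prime_iff_eq hr hp).1 (hr.dvd_of_dvd_pow e))
    (fun e => (Nat.prime_dvd_prime_iff_eq hr hq).1 (hr.dvd_of_dvd_pow e))⟩

theorem solvable_of_twoPrimes [Finite G] (h : TwoPrimes (Nat.card G)) : Group.IsSolvable G := by
  obtain ⟨p, q, hp, hq, h⟩ := h
  exact ItoSizes.isSolvable_of_two_primes hp hq h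

theorem mem_nrm_zpowers [Finite G] {x g : G} (h : g * x * g⁻¹ ∈ zpowers x) : g ∈ nrm (zpowers x) := by
  rw [Subgroup.mem_normalizer_iff_map_conj_eq, MonoidHom.map_zpowers]
  show zpowers (g * x * g⁻¹) = zpowers x
  refine eq_of_le_of_card_ge (zpowers_le.2 h) ?_
  rw [Nat.card_zpowers, Nat.card_zpowers]
  exact le_of_eq (orderOf_injective (MulAut.conj g).toMonoidHom (MulAut.conj g).injective x).symm

theorem conj_mem_of_mem_nrm {H : Subgroup G} {g h : G} (hg : g ∈ nrm H) (hh : h ∈ H) : g * h * g⁻¹ ∈ H :=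
  (Subgroup.mem_normalizer_iff.1 hg h).1 hh

theorem mem_cent_iff {x g : G} : g ∈ cent x ↔ g * x * g⁻¹ = x := by
  rw [mem_centralizer_singleton_iff, mul_inv_eq_iff_eq_mul]

/-- the factors of a cyclic group -/
theorem conj_mem_zpowers_left [Finite G] {a b g : G} (hab : Commute a b)
    (hc : (orderOf a).Coprime (orderOf b)) (hg : g ∈ nrm (zpowers (a * b))) :
    g * a * g⁻¹ ∈ zpowers a := by
  obtain ⟨k, hk⟩ := mem_zpowers_iff.1 (conj_mem_of_mem_nrm hg (mem_zpowers (a * b)))
  obtain ⟨s, hs⟩ := exists_pow_eq_self_of_coprime (x := a) (n := orderOf b) hc.symm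
  have e : (a * b) ^ (orderOf b * s) = a := by
    rw [hab.mul_pow, pow_mul, pow_mul, hs, pow_orderOf_eq_one, one_pow, mul_one]
  refine ⟨k, ?_⟩
  show a ^ k = g * a * g⁻¹
  calc a ^ k = ((a * b) ^ (orderOf b * s)) ^ k := by rw [e]
    _ = ((a * b) ^ k) ^ (orderOf b * s) := by rw [← zpow_natCast, ← zpow_natCast, ← zpow_mul, ← zpow_mul, mul_comm]
    _ = g * (a * b) ^ (orderOf b * s) * g⁻¹ := by rw [hk, conj_pow]
    _ = _ := by rw [e]

theorem mem_zpowers_of_sq {u v : G} (hu : orderOf u = 2) (hv : v ∈ zpowers u) : v = 1 ∨ v = u := by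
  obtain ⟨k, rfl⟩ := mem_zpowers_iff.1 hv
  have h2 : u ^ (2 : ℤ) = 1 := by
    rw [show (2 : ℤ) = ((2 : ℕ) : ℤ) from rfl, zpow_natCast, ← hu, pow_orderOf_eq_one]
  rcases Int.even_or_odd' k with ⟨m, rfl | rfl⟩
  · exact Or.inl (by rw [zpow_mul, h2, one_zpow])
  · exact Or.inr (by rw [zpow_add, zpow_mul, h2, one_zpow, one_mul, zpow_one])

theorem nrm_zpowers_involution [Finite G] {u : G} (hu : orderOf u = 2) : nrm (zpowers u) = cent u := by
  refine le_antisymm (fun g hg => ?_) (fun g hg => mem_nrm_zpowers ?_)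
  · rcases mem_zpowers_of_sq hu (conj_mem_of_mem_nrm hg (mem_zpowers u)) with e | e
    · have h1 : u = 1 := conj_eq_one_iff.1 e
      rw [h1, orderOf_one] at hu
      omega
    · exact mem_cent_iff.2 e
  · rw [mem_cent_iff.1 hg]
    exact mem_zpowers u

/-- trivial radical and maximal normalizers of small subgroups -/
structure Hyp (G : Type*) [Group G] : Prop where
  rf : ∀ N : Subgroup G, N.Normal → Group.IsSolvable N → N = ⊥
  mx : ∀ H : Subgroup G, H ≠ ⊥ → TwoPrimes (Nat.card H) → IsCoatom (Subgroup.normalizer (H : Set G))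

/-- a subnormal solvable subgroup lies in the radical -/
theorem subnormal_rad_le [Finite G] {H : Subgroup G} (h : H.IsSubnormal) :
    (CentreFreeThree.rad H).map H.subtype ≤ CentreFreeThree.rad G := by
  induction h with
  | top =>
    refine CentreFreeThree.le_rad ?_ (Solvable.isSolvable_map _ _)
    exact Subgroup.Normal.map inferInstance _ (fun x => ⟨⟨x, mem_top x⟩, rfl⟩)
  | step H K hle _ hn ih =>
    refine le_trans ?_ ih
    haveI := hn
    rintro _ ⟨⟨x, hxH⟩, hx, rfl⟩
    refine ⟨⟨x, hle hxH⟩, ?_, rfl⟩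
    let e := Subgroup.subgroupOfEquivOfLe hle
    refine CentreFreeThree.rad_map_le (H.subgroupOf K) ⟨⟨⟨x, hle hxH⟩, hxH⟩, ?_, rfl⟩
    have h2 : (CentreFreeThree.rad H).map e.symm.toMonoidHom ≤ CentreFreeThree.rad (H.subgroupOf K) :=
      CentreFreeThree.le_rad (Subgroup.Normal.map inferInstance _ e.symm.surjective)
        (Solvable.isSolvable_map _ _)
    exact h2 ⟨⟨x, hxH⟩, hx, rfl⟩

theorem hyp_of [Finite G] (hR : CentreFreeThree.rad G = ⊥)
    (h : ∀ H : Subgroup G, ¬ H.IsSubnormal → TwoPrimes (Nat.card H) →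
      IsCoatom (Subgroup.normalizer (H : Set G))) : Hyp G where
  rf N hN hs := eq_bot_iff.2 (hR ▸ CentreFreeThree.le_rad hN hs)
  mx H hb hp := h H (fun hsn => hb (by
    haveI : Group.IsSolvable H := solvable_of_twoPrimes hp
    have e : CentreFreeThree.rad H = ⊤ := top_le_iff.1 (CentreFreeThree.le_rad inferInstance inferInstance)
    have := subnormal_rad_le hsn
    rw [e, hR, ← MonoidHom.range_eq_map, range_subtype] at this
    exact eq_bot_iff.2 this)) hp

theorem exists_prime_order [Finite G] {H : Subgroup G} (h : ¬ IsPGroup 2 H) :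
    ∃ y ∈ H, (orderOf y).Prime ∧ Odd (orderOf y) := by
  by_contra! hne
  refine h ?_
  haveI := Fact.mk Nat.prime_two
  refine IsPGroup.of_card (n := (Nat.card H).primeFactorsList.length)
    (Nat.eq_prime_pow_of_unique_prime_dvd Nat.card_pos.ne' fun {d} hd hdvd => ?_)
  by_contra h2
  haveI := Fact.mk hd
  obtain ⟨y, hy⟩ := exists_prime_orderOf_dvd_card' (G := H) d hdvd
  have := hne y y.2
  rw [Subgroup.orderOf_coe, hy] at this
  exact this hd (hd.odd_of_ne_two h2)

/-- a group in which the `p`-elements of one Sylow subgroup normalize each other is abelian there, `p` odd -/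
theorem sylow_commute [Finite G] {p : ℕ} [Fact p.Prime] (hp : p ≠ 2) {P : Subgroup G} (hP : IsPGroup p P)
    (h : ∀ a ∈ P, ∀ b ∈ P, b * a * b⁻¹ ∈ zpowers a) {a b : G} (ha : a ∈ P) (hb : b ∈ P) : Commute a b := by
  by_contra hab
  have hn : ∀ H : Subgroup P, H.Normal := fun H => ⟨fun x hx g => by
    obtain ⟨k, hk⟩ := mem_zpowers_iff.1 (h x x.2 g g.2)
    have : g * x * g⁻¹ = x ^ k := Subtype.ext (by push_cast; exact hk.symm)
    rw [this]
    exact zpow_mem hx k⟩
  exact hp (Hamiltonian.q8_of_not_commute hn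
    (a := (⟨a, ha⟩ : P)) (b := ⟨b, hb⟩) (p := p) (hP.exists_orderOf_eq_pow _) (hP.exists_orderOf_eq_pow _)
    (fun e => hab (congrArg Subtype.val e.eq))).1

variable [Finite G]

namespace Hyp

variable (h : Hyp G)
include h

theorem nrm_ne_top {H : Subgroup G} (hb : H ≠ ⊥) (hp : TwoPrimes (Nat.card H)) : nrm H ≠ ⊤ :=
  (h.mx H hb hp).1

theorem eq_of_le {H X : Subgroup G} (hb : H ≠ ⊥) (hp : TwoPrimes (Nat.card H)) (hle : nrm H ≤ X)
    (hX : X ≠ ⊤) : nrm H = X :=
  ((h.mx H hb hp).le_iff.1 hle).elim (fun e => absurd e hX) Eq.symm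

theorem nrm_of_involution {u : G} (hu : orderOf u = 2) :
    IsCoatom (cent u) := by
  rw [← nrm_zpowers_involution hu]
  refine h.mx _ (fun e => ?_) (twoPrimes_pow Nat.prime_two (k := 1) (by rw [Nat.card_zpowers, hu, pow_one]))
  rw [zpowers_eq_bot.1 e, orderOf_one] at hu
  omega

theorem cent_ne_top {u : G} (hu : orderOf u = 2) : cent u ≠ ⊤ := (h.nrm_of_involution hu).1

theorem zpowers_ne_bot {y : G} (hy : y ≠ 1) : zpowers y ≠ ⊥ := fun e => hy (zpowers_eq_bot.1 e)

/-- the key fact -/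
theorem cent_eq_nrm {u y : G} (hu : orderOf u = 2) {p k : ℕ} (hp : p.Prime) (hp2 : p ≠ 2)
    (hy : orderOf y = p ^ k) (hy1 : y ≠ 1) (hc : Commute u y) : cent u = nrm (zpowers y) := by
  have hcop : (orderOf u).Coprime (orderOf y) := by
    rw [hu, hy]
    exact ((Nat.coprime_primes Nat.prime_two hp).2 (Ne.symm hp2)).pow_right _
  have hne : u * y ≠ 1 := fun e => by
    have := hc.orderOf_mul_eq_mul_orderOf_of_coprime hcop
    rw [e, orderOf_one, hu] at this
    omega
  have hT : TwoPrimes (Nat.card (zpowers (u * y))) := by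
    rw [Nat.card_zpowers, hc.orderOf_mul_eq_mul_orderOf_of_coprime hcop, hu, hy]
    exact twoPrimes_mul Nat.prime_two hp (a := 1) (by rw [pow_one])
  have h1 : nrm (zpowers (u * y)) ≤ cent u := by
    intro g hg
    rw [← nrm_zpowers_involution hu]
    exact mem_nrm_zpowers (conj_mem_zpowers_left hc hcop hg)
  have h2 : nrm (zpowers (u * y)) ≤ nrm (zpowers y) := by
    intro g hg
    rw [hc.eq] at hg
    exact mem_nrm_zpowers (conj_mem_zpowers_left hc.symm hcop.symm hg)
  have hb := h.zpowers_ne_bot hne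
  rw [← h.eq_of_le hb hT h1 (h.cent_ne_top hu)]
  exact h.eq_of_le hb hT h2 (h.nrm_ne_top (h.zpowers_ne_bot hy1)
    (twoPrimes_pow hp (k := k) (by rw [Nat.card_zpowers, hy])))

/-- odd elements of prime power order in the centralizer of an involution -/
theorem conj_odd {u g y : G} (hu : orderOf u = 2) (hg : g ∈ cent u) {p k : ℕ} (hp : p.Prime)
    (hp2 : p ≠ 2) (hy : orderOf y = p ^ k) (hyc : y ∈ cent u) : g * y * g⁻¹ ∈ zpowers y := by
  by_cases hy1 : y = 1
  · rw [hy1, mul_one, mul_inv_cancel]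
    exact one_mem _
  · have hc : Commute u y := (mem_centralizer_singleton_iff.1 hyc).symm
    rw [h.cent_eq_nrm hu hp hp2 hy hy1 hc] at hg
    exact conj_mem_of_mem_nrm hg (mem_zpowers y)

theorem odd_commute {u a b : G} (hu : orderOf u = 2) {p q i j : ℕ} (hp : p.Prime) (hq : q.Prime)
    (hp2 : p ≠ 2) (hq2 : q ≠ 2) (ha : orderOf a = p ^ i) (hb : orderOf b = q ^ j)
    (hac : a ∈ cent u) (hbc : b ∈ cent u) : Commute a b := by
  have h1 := h.conj_odd hu hbc hp hp2 ha hac
  have h2 := h.conj_odd hu hac hq hq2 hb hbc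
  by_cases hpq : p = q
  · subst hpq
    haveI := Fact.mk hp
    set P := zpowers a ⊔ zpowers b
    have hPc : P ≤ cent u := sup_le (zpowers_le.2 hac) (zpowers_le.2 hbc)
    have hP : IsPGroup p P := by
      refine IsPGroup.to_sup_of_normal_right' (IsPGroup.of_card (n := i) (by rw [Nat.card_zpowers, ha]))
        (IsPGroup.of_card (n := j) (by rw [Nat.card_zpowers, hb])) ?_
      rw [zpowers_le]
      exact mem_nrm_zpowers h2
    refine sylow_commute hp2 hP (fun x hx g hg => ?_) (mem_sup_left (mem_zpowers a))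
      (mem_sup_right (mem_zpowers b))
    obtain ⟨k, hk⟩ := hP.exists_orderOf_eq_pow ⟨x, hx⟩
    exact h.conj_odd hu (hPc hg) hp hp2 (k := k) (by rw [← hk, Subgroup.orderOf_mk]) (hPc hx)
  · have hcop : (Nat.card (zpowers a)).Coprime (Nat.card (zpowers b)) := by
      rw [Nat.card_zpowers, Nat.card_zpowers, ha, hb]
      exact ((Nat.coprime_primes hp hq).2 hpq).pow _ _
    refine commutatorElement_eq_one_iff_mul_comm.1
      ((Subgroup.mem_bot).1 ((Subgroup.inf_eq_bot_of_coprime hcop).le (Subgroup.mem_inf.2 ⟨?_, ?_⟩)))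
    · rw [commutatorElement_def, mul_assoc a, mul_assoc a]
      refine mul_mem (mem_zpowers a) ?_
      have := h.conj_odd hu hbc hp hp2 ha hac
      have := inv_mem this
      simpa [mul_assoc] using this
    · rw [commutatorElement_def]
      exact mul_mem h2 (inv_mem (mem_zpowers b))

/-- centralizers of involutions are solvable -/
theorem cent_solvable {u : G} (hu : orderOf u = 2) : Group.IsSolvable (cent u) := by
  set S : Set (cent u) := {y | ∃ p k, p.Prime ∧ p ≠ 2 ∧ orderOf y = p ^ k} with hS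
  set A := closure S
  have hAc : IsMulCommutative A := by
    refine isMulCommutative_closure ?_
    rintro a ⟨p, i, hp, hp2, ha⟩ b ⟨q, j, hq, hq2, hb⟩
    exact Subtype.ext (h.odd_commute hu hp hq hp2 hq2 (by rw [← ha, Subgroup.orderOf_coe])
      (by rw [← hb, Subgroup.orderOf_coe]) a.2 b.2).eq
  have hAn : A.Normal := by
    refine normalizer_eq_top_iff.1 (top_le_iff.1 fun g _ => ?_)
    refine Subgroup.mem_normalizer_iff_map_conj_eq.2 ?_
    rw [MonoidHom.map_closure]
    congr 1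
    ext y
    constructor
    · rintro ⟨x, ⟨p, k, hp, hp2, hx⟩, rfl⟩
      exact ⟨p, k, hp, hp2, hx ▸ orderOf_injective (MulAut.conj g).toMonoidHom (MulAut.conj g).injective x⟩
    · rintro ⟨p, k, hp, hp2, hy⟩
      refine ⟨(MulAut.conj g).symm y, ⟨p, k, hp, hp2, ?_⟩, MulEquiv.apply_symm_apply _ y⟩
      exact (orderOf_injective (MulAut.conj g).symm.toMonoidHom (MulAut.conj g).symm.injective y).trans hy
  haveI := hAn
  refine CentreFreeThree.solvable_of_normal (N := A) (Group.isSolvable_of_comm fun a b => hAc.is_comm.comm a b) ?_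
  refine solvable_of_twoPrimes ⟨2, 2, Nat.prime_two, Nat.prime_two, fun r hr hd => ?_⟩
  by_contra hne
  push Not at hne
  haveI := Fact.mk hr
  obtain ⟨x, hx⟩ := exists_prime_orderOf_dvd_card' (G := cent u ⧸ A) r hd
  obtain ⟨g, rfl⟩ := QuotientGroup.mk'_surjective A x
  obtain ⟨a, b, hg, hc, -, -, ha, hb⟩ := ThreeSizes.exists_parts hr g
  obtain ⟨k, hk⟩ := ha
  have hu' : QuotientGroup.mk' A a = 1 :=
    (QuotientGroup.eq_one_iff a).2 (subset_closure ⟨r, k, hr, hne.1, hk⟩)
  rw [hg, map_mul, hu', one_mul] at hx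
  exact hb (hx ▸ orderOf_map_dvd (QuotientGroup.mk' A) b)

/-- in the centralizer of an involution with an odd element, cyclic 2-subgroups are normal in Sylow subgroups -/
theorem zpowers_conj_two {u y : G} (hu : orderOf u = 2) {p : ℕ} (hp : p.Prime) (hp2 : p ≠ 2)
    (hy : orderOf y = p) (hyc : Commute u y) {R : Subgroup G} (hR : IsPGroup 2 R) (hRc : R ≤ cent u)
    {g x : G} (hg : g ∈ R) (hx : x ∈ R) : g * x * g⁻¹ ∈ zpowers x := by
  haveI := Fact.mk hp
  haveI := Fact.mk Nat.prime_two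
  by_cases hx1 : x = 1
  · rw [hx1, mul_one, mul_inv_cancel]
    exact one_mem _
  have hy1 : y ≠ 1 := fun e => by
    rw [e, orderOf_one] at hy
    exact hp.ne_one hy.symm
  have hM := h.cent_eq_nrm hu hp hp2 (k := 1) (by rw [hy, pow_one]) hy1 hyc
  set Y := zpowers y with hY
  set H := Y ⊔ zpowers x with hH
  have hxY : zpowers x ≤ nrm Y := zpowers_le.2 (hM ▸ hRc hx)
  have hHY : H ≤ nrm Y := sup_le le_normalizer hxY
  obtain ⟨k, hk⟩ := hR.exists_orderOf_eq_pow ⟨x, hx⟩
  rw [Subgroup.orderOf_mk] at hk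
  have hmem : ∀ z ∈ H, ∃ i j : ℤ, z = y ^ i * x ^ j := by
    intro z hz
    rw [hH, ← SetLike.mem_coe, Subgroup.coe_mul_of_right_le_normalizer_left _ _ hxY] at hz
    obtain ⟨a, ⟨i, rfl⟩, b, ⟨j, rfl⟩, rfl⟩ := hz
    exact ⟨i, j, rfl⟩
  have hcop : p.Coprime (2 ^ k) := ((Nat.coprime_primes hp Nat.prime_two).2 hp2).pow_right _
  have htor : ∀ z ∈ H, z ^ p = 1 → z ∈ Y := by
    intro z hz hzp
    haveI : (Y.subgroupOf (nrm Y)).Normal := Subgroup.normal_in_normalizer
    obtain ⟨i, j, rfl⟩ := hmem z hz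
    let f := QuotientGroup.mk' (Y.subgroupOf (nrm Y))
    set a : (nrm Y : Subgroup G) := ⟨y ^ i, le_normalizer (zpow_mem (mem_zpowers y) i)⟩
    set b : (nrm Y : Subgroup G) := ⟨x ^ j, zpow_mem (hxY (mem_zpowers x)) j⟩
    have ha : f a = 1 := (QuotientGroup.eq_one_iff a).2 (mem_subgroupOf.2 (zpow_mem (mem_zpowers y) i))
    have h1 : f b ^ p = 1 := by
      have : f (a * b) ^ p = 1 := by
        rw [← map_pow, show (a * b) ^ p = 1 from Subtype.ext hzp, map_one]
      rwa [map_mul, ha, one_mul] at this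
    have h2 : f b ^ (2 ^ k) = 1 := by
      rw [← map_pow, show b ^ (2 ^ k) = 1 from Subtype.ext (by
        show (x ^ j) ^ (2 ^ k) = 1
        rw [← zpow_natCast, ← zpow_mul, mul_comm, zpow_mul, zpow_natCast, ← hk, pow_orderOf_eq_one, one_zpow]),
        map_one]
    have h3 : f b = 1 := by
      have := (pow_gcd_eq_one (a := f b)).2 ⟨h1, h2⟩
      rwa [hcop, pow_one] at this
    exact mul_mem (zpow_mem (mem_zpowers y) i) (mem_subgroupOf.1 ((QuotientGroup.eq_one_iff b).1 h3))
  have hle : nrm H ≤ nrm Y := fun n hn => mem_nrm_zpowers (htor _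
    (conj_mem_of_mem_nrm hn (mem_sup_left (mem_zpowers y))) (by
      rw [conj_pow, show y ^ p = 1 from orderOf_dvd_iff_pow_eq_one.1 hy.dvd, mul_one, mul_inv_cancel]))
  have hcard : Nat.card H ∣ p ^ 1 * 2 ^ k := by
    have h1 := Subgroup.card_mul_index (Y.subgroupOf H)
    haveI : (Y.subgroupOf H).Normal := normal_subgroupOf_of_le_normalizer hHY
    have h2 : (Y.subgroupOf H).index ∣ 2 ^ k := by
      have hsurj : Function.Surjective ((QuotientGroup.mk' (Y.subgroupOf H)).comp
          (Subgroup.inclusion (le_sup_right : zpowers x ≤ H))) := by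
        intro w
        obtain ⟨⟨z, hz⟩, rfl⟩ := QuotientGroup.mk'_surjective _ w
        obtain ⟨i, j, rfl⟩ := hmem z hz
        refine ⟨⟨x ^ j, zpow_mem (mem_zpowers x) j⟩, (QuotientGroup.mk'_eq_mk' _).2
          ⟨⟨(x ^ j)⁻¹ * (y ^ i * x ^ j), mul_mem (inv_mem (zpow_mem (mem_sup_right (mem_zpowers x)) j)) hz⟩,
            mem_subgroupOf.2 ?_, Subtype.ext (mul_inv_cancel_left (x ^ j) (y ^ i * x ^ j))⟩⟩
        have := conj_mem_of_mem_nrm (inv_mem (zpow_mem (hxY (mem_zpowers x)) j)) (zpow_mem (mem_zpowers y) i)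
        simpa [hY, mul_assoc] using this
      have := Subgroup.card_dvd_of_surjective _ hsurj
      rwa [Nat.card_zpowers, hk] at this
    have h3 : Nat.card (Y.subgroupOf H) = p := by
      rw [Nat.card_congr (Subgroup.subgroupOfEquivOfLe (le_sup_left : Y ≤ H)).toEquiv, hY, Nat.card_zpowers, hy]
    rw [← h1, h3, pow_one]
    exact mul_dvd_mul_left p h2
  have hne : H ≠ ⊥ := fun e => hy1 (mem_bot.1 (e ▸ mem_sup_left (mem_zpowers y)))
  have hN : nrm H = cent u := hM ▸ h.eq_of_le hne (twoPrimes_mul hp Nat.prime_two hcard) hle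
    (hM ▸ h.cent_ne_top hu)
  obtain ⟨i, j, e⟩ := hmem _ (conj_mem_of_mem_nrm (hN ▸ hRc hg : g ∈ nrm H) (mem_sup_right (mem_zpowers x)))
  have hyR : y ^ i ∈ R := by
    rw [show y ^ i = g * x * g⁻¹ * (x ^ j)⁻¹ by rw [e, mul_inv_cancel_right]]
    exact mul_mem (mul_mem (mul_mem hg hx) (inv_mem hg)) (inv_mem (zpow_mem hx j))
  obtain ⟨m, hm⟩ := hR.exists_orderOf_eq_pow ⟨y ^ i, hyR⟩
  rw [Subgroup.orderOf_mk] at hm
  have hd : orderOf (y ^ i) ∣ p := hy ▸ orderOf_dvd_of_mem_zpowers (zpow_mem (mem_zpowers y) i)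
  have h1 : y ^ i = 1 := orderOf_eq_one_iff.1 (Nat.eq_one_of_dvd_coprimes
    (((Nat.coprime_primes hp Nat.prime_two).2 hp2).pow_right m) hd (dvd_of_eq hm))
  rw [e, h1, one_mul]
  exact zpow_mem (mem_zpowers x) j

end Hyp

end Cfsg.Agent.MaxNormalizers
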