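import Cfsg.Agent.S2117
import Cfsg.Agent.Lib.PSL2.Soluble

/-!
# Perfect central extensions of `PSL(2,13)`

* `cover_thirteen`: a perfect central extension is `PSL(2,13)` or `SL(2,13)`
-/

set_option autoImplicit false
set_option linter.style.haveILetI false

open Subgroup
open scoped commutatorElement

namespace Cfsg.Agent.MaxNormalizers

local notation "SL13" => Matrix.SpecialLinearGroup (Fin 2) (ZMod 13)
local notation "P13" => Matrix.ProjectiveSpecialLinearGroup (Fin 2) (ZMod 13)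

theorem commutator_sl_thirteen : commutator SL13 = ⊤ := by
  have h1 : (2 : ZMod 13) ≠ 0 := by decide
  have h2 : (2 : ZMod 13) ^ 2 ≠ 1 := by decide
  haveI : Fact (Nat.Prime 13) := ⟨by norm_num⟩
  exact Matrix.SL2.commutator_eq_top h1 h2

theorem cover_type_zero (D : Type) [Group D] [Finite D] (π : D →* P13) (hs : Function.Surjective π)
    (hc : π.ker ≤ center D) (hp : commutator D = ⊤) :
    Nonempty (D ≃* P13) ∨ Nonempty (D ≃* SL13) := by
  haveI : Fact (Nat.Prime 13) := ⟨by norm_num⟩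
  let q : SL13 →* P13 := QuotientGroup.mk' (center SL13)
  have hqs : Function.Surjective q := QuotientGroup.mk'_surjective _
  let Γ0 : Subgroup (D × SL13) := (π.comp (MonoidHom.fst D SL13)).eqLocus (q.comp (MonoidHom.snd D SL13))
  have hmem : ∀ x : Γ0, π (x : D × SL13).1 = q (x : D × SL13).2 := fun x => x.2
  let a : Γ0 →* D := (MonoidHom.fst D SL13).comp Γ0.subtype
  let b : Γ0 →* SL13 := (MonoidHom.snd D SL13).comp Γ0.subtype
  have ha : Function.Surjective a := fun d => by
    obtain ⟨s, hs'⟩ := hqs (π d)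
    exact ⟨⟨(d, s), hs'.symm⟩, rfl⟩
  have hb : Function.Surjective b := fun s => by
    obtain ⟨d, hd⟩ := hs (q s)
    exact ⟨⟨(d, s), hd⟩, rfl⟩
  set Γ1 : Subgroup Γ0 := commutator Γ0 with hΓ1
  have hbcen : b.ker ≤ center Γ0 := by
    intro x hx
    rw [mem_center_iff]
    intro g
    have hx2 : (x : D × SL13).2 = 1 := hx
    have hx1 : (x : D × SL13).1 ∈ center D := hc (show π _ = 1 by rw [hmem x, hx2, map_one])
    apply Subtype.ext
    apply Prod.ext
    · exact mem_center_iff.1 hx1 _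
    · show (g : D × SL13).2 * (x : D × SL13).2 = (x : D × SL13).2 * (g : D × SL13).2
      rw [hx2, one_mul, mul_one]
  have hmapb : Γ1.map b = ⊤ := by
    rw [hΓ1, commutator_def, Subgroup.map_commutator, Subgroup.map_top_of_surjective b hb, ← commutator_def,
      commutator_sl_thirteen]
  have hmapa : Γ1.map a = ⊤ := by
    rw [hΓ1, commutator_def, Subgroup.map_commutator, Subgroup.map_top_of_surjective a ha, ← commutator_def, hp]
  let σ : Γ1 →* SL13 := b.comp Γ1.subtype
  have hσ : Function.Surjective σ := fun s => by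
    obtain ⟨x, hx, hxs⟩ := (hmapb ▸ mem_top s : s ∈ Γ1.map b)
    exact ⟨⟨x, hx⟩, hxs⟩
  have hperf : commutator Γ1 = ⊤ := by
    rw [eq_top_iff]
    rintro ⟨x, hx⟩ -
    have hle : Γ1 ≤ (commutator Γ1).map Γ1.subtype := by
      show ⁅(⊤ : Subgroup Γ0), ⊤⁆ ≤ _
      rw [Subgroup.commutator_le]
      intro g _ k _
      obtain ⟨g', hg'⟩ := hσ (b g)
      obtain ⟨k', hk'⟩ := hσ (b k)
      have hcg : (g' : Γ0)⁻¹ * g ∈ center Γ0 := hbcen (show b _ = 1 by
        rw [map_mul, map_inv, show b (g' : Γ0) = b g from hg', inv_mul_cancel])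
      have hck : (k' : Γ0)⁻¹ * k ∈ center Γ0 := hbcen (show b _ = 1 by
        rw [map_mul, map_inv, show b (k' : Γ0) = b k from hk', inv_mul_cancel])
      refine ⟨⁅g', k'⁆, commutator_mem_commutator (mem_top _) (mem_top _), ?_⟩
      rw [show Γ1.subtype ⁅g', k'⁆ = ⁅(g' : Γ0), (k' : Γ0)⁆ from map_commutatorElement _ _ _]
      have e1 : g = (g' : Γ0) * ((g' : Γ0)⁻¹ * g) := by group
      have e2 : k = (k' : Γ0) * ((k' : Γ0)⁻¹ * k) := by group
      generalize hcd : (g' : Γ0)⁻¹ * g = c at hcg e1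
      generalize hdd : (k' : Γ0)⁻¹ * k = d at hck e2
      subst e1 e2
      rw [commutatorElement_def, commutatorElement_def]
      calc (g' : Γ0) * (k' : Γ0) * (g' : Γ0)⁻¹ * (k' : Γ0)⁻¹
          = (g' : Γ0) * (c * ((k' : Γ0) * d) * c⁻¹) * (g' : Γ0)⁻¹ * (d⁻¹ * (k' : Γ0)⁻¹) := by
            rw [← mem_center_iff.1 hcg ((k' : Γ0) * d), mul_inv_cancel_right]
            calc (g' : Γ0) * (k' : Γ0) * (g' : Γ0)⁻¹ * (k' : Γ0)⁻¹
                = (g' : Γ0) * (k' : Γ0) * ((g' : Γ0)⁻¹ * d) * d⁻¹ * (k' : Γ0)⁻¹ := by group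
              _ = (g' : Γ0) * (k' : Γ0) * (d * (g' : Γ0)⁻¹) * d⁻¹ * (k' : Γ0)⁻¹ := by
                rw [mem_center_iff.1 hck (g' : Γ0)⁻¹]
              _ = _ := by group
        _ = _ := by group
    obtain ⟨y, hy, hyx⟩ := hle hx
    exact (show y = ⟨x, hx⟩ from Subtype.ext hyx) ▸ hy
  have hstem : Cfsg.IsStemExtension σ := by
    refine ⟨hσ, fun x hx => ?_, by rw [hperf]; exact le_top⟩
    rw [mem_center_iff]
    exact fun g => Subtype.ext (mem_center_iff.1 (hbcen (show b (x : Γ0) = 1 from hx)) g)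
  obtain ⟨π', hπ'⟩ := (S2117.result (F := ZMod 13) (by rw [ZMod.card]; norm_num) (by rw [ZMod.card]; norm_num)).2 Γ1 σ hstem
  have hσi : Function.Injective σ := by
    refine (injective_iff_map_eq_one σ).2 fun x hx => ?_
    obtain ⟨w, hw⟩ := hπ' ⟨x, hx⟩
    have hsub : Subsingleton (Multiplicative (ZMod 1)) := inferInstance
    rw [hsub.elim w 1, map_one] at hw
    exact (congrArg Subtype.val hw).symm
  let e : Γ1 ≃* SL13 := MulEquiv.ofBijective σ ⟨hσi, hσ⟩
  let χ : SL13 →* D := (a.comp Γ1.subtype).comp e.symm.toMonoidHom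
  have hχ : Function.Surjective χ := fun d => by
    obtain ⟨x, hx, hxd⟩ := (hmapa ▸ mem_top d : d ∈ Γ1.map a)
    exact ⟨e ⟨x, hx⟩, by show a (Γ1.subtype (e.symm (e ⟨x, hx⟩))) = d; rw [e.symm_apply_apply]; exact hxd⟩
  have hπχ : ∀ s, π (χ s) = q s := fun s => by
    show π (a ((e.symm s : Γ1) : Γ0)) = q s
    rw [show π (a ((e.symm s : Γ1) : Γ0)) = q (b ((e.symm s : Γ1) : Γ0)) from hmem _]
    exact congrArg q (e.apply_symm_apply s)
  have hker : ∀ s, χ s = 1 → s = 1 ∨ s = -1 := fun s hs' => by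
    have := hπχ s
    rw [hs', map_one] at this
    exact PSL2.mk_eq_one_iff.1 this.symm
  by_cases hm : χ (-1) = 1
  · left
    have hπi : Function.Injective π := by
      refine (injective_iff_map_eq_one π).2 fun d hd => ?_
      obtain ⟨s, rfl⟩ := hχ d
      rw [hπχ] at hd
      rcases PSL2.mk_eq_one_iff.1 hd with rfl | rfl
      · exact map_one χ
      · exact hm
    exact ⟨MulEquiv.ofBijective π ⟨hπi, hs⟩⟩
  · right
    have hχi : Function.Injective χ := (injective_iff_map_eq_one χ).2 fun s hs' =>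
      (hker s hs').resolve_right fun e' => hm (e' ▸ hs')
    exact ⟨(MulEquiv.ofBijective χ ⟨hχi, hχ⟩).symm⟩

theorem cover_thirteen {D : Type*} [Group D] [Finite D] (π : D →* P13) (hs : Function.Surjective π)
    (hc : π.ker ≤ center D) (hp : commutator D = ⊤) :
    Nonempty (D ≃* P13) ∨ Nonempty (D ≃* SL13) := by
  let e : Shrink.{0} D ≃* D := Shrink.mulEquiv
  haveI : Finite (Shrink.{0} D) := Finite.of_equiv D e.symm.toEquiv
  have h := cover_type_zero (Shrink.{0} D) (π.comp e.toMonoidHom) (hs.comp e.surjective) (fun x hx => by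
    rw [mem_center_iff]
    intro g
    exact e.injective (by rw [map_mul, map_mul]; exact mem_center_iff.1 (hc hx) (e g))) (by
    rw [eq_top_iff, ← Subgroup.map_top_of_surjective e.symm.toMonoidHom e.symm.surjective, ← hp, commutator_def,
      Subgroup.map_commutator]
    exact Subgroup.commutator_mono le_top le_top)
  exact h.imp (fun ⟨f⟩ => ⟨e.symm.trans f⟩) (fun ⟨f⟩ => ⟨e.symm.trans f⟩)

end Cfsg.Agent.MaxNormalizers
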