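import Cfsg.Agent.Lib.MaxNormalizers.Sylow

/-!
# Either centralizers of involutions are 2-groups or Sylow 2-subgroups are abelian

* `Hyp.sylow_eq_cent`: the centralizer of a central involution is the Sylow subgroup
* `Hyp.dichotomy`
-/

set_option autoImplicit false
set_option linter.unusedSectionVars false
set_option linter.style.haveILetI false

open Subgroup
open scoped commutatorElement

namespace Cfsg.Agent.MaxNormalizers

variable {G : Type*} [Group G] [Finite G]

local notation "nrm" H:max => Subgroup.normalizer (SetLike.coe H)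
local notation "cent" x:max => Subgroup.centralizer ({x} : Set _)

theorem orderOf_conj_eq (g x : G) : orderOf (g * x * g⁻¹) = orderOf x :=
  orderOf_injective (MulAut.conj g).toMonoidHom (MulAut.conj g).injective x

theorem conj_cent (g x : G) : cent (g * x * g⁻¹) = (cent x).map (MulAut.conj g).toMonoidHom := by
  ext w
  rw [Subgroup.mem_map_equiv, mem_cent_iff, mem_cent_iff]
  simp only [MulAut.conj_symm_apply]
  constructor
  · intro e
    calc g⁻¹ * w * g * x * (g⁻¹ * w * g)⁻¹ = g⁻¹ * (w * (g * x * g⁻¹) * w⁻¹) * g := by group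
      _ = g⁻¹ * (g * x * g⁻¹) * g := by rw [e]
      _ = x := by group
  · intro e
    calc w * (g * x * g⁻¹) * w⁻¹ = g * ((g⁻¹ * w * g) * x * (g⁻¹ * w * g)⁻¹) * g⁻¹ := by group
      _ = _ := by rw [e]

theorem isPGroup_cent_conj {x : G} (g : G) (hx : IsPGroup 2 (cent x)) : IsPGroup 2 (cent (g * x * g⁻¹)) := by
  rw [conj_cent]
  exact hx.map _

theorem exists_central_involution (T : Sylow 2 G) (he : 2 ∣ Nat.card G) :
    ∃ z ∈ (T : Subgroup G), orderOf z = 2 ∧ ∀ t ∈ (T : Subgroup G), t * z * t⁻¹ = z := by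
  haveI := Fact.mk Nat.prime_two
  haveI : Nontrivial (T : Subgroup G) :=
    (Subgroup.nontrivial_iff_ne_bot _).2 (T.ne_bot_of_dvd_card he)
  haveI := T.2.center_nontrivial
  obtain ⟨c, hc⟩ := exists_prime_orderOf_dvd_card' (G := center (T : Subgroup G)) 2 (by
    obtain ⟨m, hm⟩ := IsPGroup.iff_card.1 (T.2.to_subgroup (center (T : Subgroup G)))
    rw [hm]
    refine dvd_pow_self 2 ?_
    rintro rfl
    rw [pow_zero] at hm
    exact absurd hm Finite.one_lt_card.ne')
  refine ⟨((c : (T : Subgroup G)) : G), (c : (T : Subgroup G)).2,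
    by rw [Subgroup.orderOf_coe, Subgroup.orderOf_coe, hc], fun t ht => ?_⟩
  have := congrArg Subtype.val (mem_center_iff.1 c.2 ⟨t, ht⟩)
  rw [mul_inv_eq_iff_eq_mul]
  exact this

/-- in a 2-group: the property needed for four-groups through a central involution -/
def FourNormal (S : Subgroup G) (z : G) : Prop :=
  ∀ h ∈ S, ∀ w ∈ S, orderOf w = 2 → h * w * h⁻¹ = w ∨ h * w * h⁻¹ = w * z

namespace Hyp

variable (h : Hyp G)
include h

/-- a maximal centralizer that is a 2-group is the Sylow subgroup it contains -/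
theorem sylow_eq_cent {z : G} (T : Sylow 2 G) (hT : (T : Subgroup G) ≤ cent z)
    (h2 : IsPGroup 2 (cent z)) : cent z = (T : Subgroup G) :=
  T.3 h2 hT

theorem nrm_cent {u : G} (hu : orderOf u = 2) : nrm (cent u) = cent u := by
  refine ((h.nrm_of_involution hu).le_iff.1 le_normalizer).resolve_left fun e => ?_
  have := h.rf (cent u) (normalizer_eq_top_iff.1 e) (h.cent_solvable hu)
  have hu1 : u ∈ cent u := mem_centralizer_singleton_iff.2 rfl
  rw [this, mem_bot] at hu1
  rw [hu1, orderOf_one] at hu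
  omega

/-- the main local argument -/
theorem no_mixed {u y : G} (hu : orderOf u = 2) {p : ℕ} (hp : p.Prime) (hp2 : p ≠ 2)
    (hy : orderOf y = p) (hyc : Commute u y)
    (hcen : ∀ (T : Sylow 2 G) (z : G), orderOf z = 2 → (T : Subgroup G) ≤ cent z → IsPGroup 2 (cent z)) :
    False := by
  haveI := Fact.mk hp
  haveI := Fact.mk Nat.prime_two
  set M := cent u with hMdef
  have hy1 : y ≠ 1 := fun e => by
    rw [e, orderOf_one] at hy
    exact hp.ne_one hy.symm
  have hy1' : orderOf y = p ^ 1 := by rw [hy, pow_one]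
  have hyM : y ∈ M := mem_centralizer_singleton_iff.2 hyc.symm.eq
  have hMY : M = nrm (zpowers y) := h.cent_eq_nrm hu hp hp2 hy1' hy1 hyc
  have centM : ∀ v, orderOf v = 2 → Commute v y → cent v = M := fun v hv hvc =>
    (h.cent_eq_nrm hv hp hp2 hy1' hy1 hvc).trans hMY.symm
  have notTwo : ∀ v, orderOf v = 2 → Commute v y → ¬ IsPGroup 2 (cent v) := by
    intro v _ hvc h2
    obtain ⟨k, hk⟩ := h2.exists_orderOf_eq_pow ⟨y, mem_centralizer_singleton_iff.2 hvc.symm.eq⟩
    rw [Subgroup.orderOf_mk, hy] at hk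
    exact hp2 ((Nat.prime_dvd_prime_iff_eq hp Nat.prime_two).1 (hp.dvd_of_dvd_pow (dvd_of_eq hk)))
  -- a Sylow subgroup of the centralizer
  obtain ⟨S⟩ : Nonempty (Sylow 2 M) := inferInstance
  set R := (S : Subgroup M).map M.subtype with hRdef
  have hR2 : IsPGroup 2 R := S.2.map _
  have hRM : R ≤ M := map_subtype_le _
  obtain ⟨T, hRT⟩ := hR2.exists_le_sylow
  have hTM : ∀ g ∈ (T : Subgroup G), g ∈ M → g ∈ R := by
    intro g hgT hgM
    have h1 : (T : Subgroup G).subgroupOf M = (S : Subgroup M) :=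
      S.3 (T.2.comap_subtype) (fun x hx => mem_subgroupOf.2 (hRT ⟨x, hx, rfl⟩))
    exact ⟨⟨g, hgM⟩, h1 ▸ (mem_subgroupOf.2 hgT : (⟨g, hgM⟩ : M) ∈ (T : Subgroup G).subgroupOf M), rfl⟩
  have huR : u ∈ R := by
    have hu' : u ∈ M := mem_centralizer_singleton_iff.2 rfl
    have hp' : IsPGroup 2 ↥((S : Subgroup M) ⊔ zpowers (⟨u, hu'⟩ : M)) := by
      refine IsPGroup.to_sup_of_normal_left' S.2 (IsPGroup.of_card (n := 1) (by
        rw [Nat.card_zpowers, Subgroup.orderOf_mk, hu, pow_one])) ?_
      rw [zpowers_le]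
      refine Subgroup.centralizer_le_normalizer _ ?_
      rw [mem_centralizer_iff]
      exact fun s _ => Subtype.ext (mem_centralizer_singleton_iff.1 s.2)
    have := S.3 hp' le_sup_left
    exact ⟨⟨u, hu'⟩, this ▸ mem_sup_right (mem_zpowers _), rfl⟩
  have hd : ∀ g ∈ R, ∀ x ∈ R, g * x * g⁻¹ ∈ zpowers x := fun g hg x hx =>
    h.zpowers_conj_two hu hp hp2 hy hyc hR2 hRM hg hx
  have hTnot : ¬ (T : Subgroup G) ≤ M := fun hle => notTwo u hu hyc (hcen T u hu hle)
  obtain ⟨z, hzT, hz, hzc⟩ := exists_central_involution T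
    (hu ▸ orderOf_dvd_natCard u)
  have hTz : (T : Subgroup G) ≤ cent z := fun t ht => mem_cent_iff.2 (hzc t ht)
  have hz2 : IsPGroup 2 (cent z) := hcen T z hz hTz
  have hzR : z ∈ R := hTM z hzT (mem_centralizer_singleton_iff.2
    (mul_inv_eq_iff_eq_mul.1 (hzc u (hRT huR))).symm)
  have hzy : ¬ Commute z y := fun e => notTwo z hz e hz2
  have hzM : z ∈ M := hRM hzR
  -- two inverting involutions differ by a centralizing element
  have hinv : ∀ v ∈ R, orderOf v = 2 → ¬ Commute v y → v * y * v⁻¹ = y⁻¹ := by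
    intro v hv hv2 hvc
    have hvM : v ∈ nrm (zpowers y) := hMY ▸ hRM hv
    obtain ⟨i, hi⟩ := mem_zpowers_iff.1 (conj_mem_of_mem_nrm hvM (mem_zpowers y))
    have hvv : v * v = 1 := by rw [← pow_two, ← hv2, pow_orderOf_eq_one]
    have h2 : y ^ (i * i) = y := by
      calc y ^ (i * i) = (v * y * v⁻¹) ^ i := by rw [zpow_mul, hi]
        _ = v * y ^ i * v⁻¹ := conj_zpow
        _ = (v * v) * y * (v * v)⁻¹ := by rw [hi]; group
        _ = y := by rw [hvv]; group
    have h3 : ((orderOf y : ℤ)) ∣ (i - 1) * (i + 1) := by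
      rw [show (i - 1) * (i + 1) = i * i - 1 by ring, orderOf_dvd_iff_zpow_eq_one, zpow_sub, h2, zpow_one,
        mul_inv_cancel]
    rw [hy] at h3
    rcases (Nat.prime_iff_prime_int.1 hp).dvd_or_dvd h3 with e | e
    · exfalso
      refine hvc ?_
      rw [← hy, orderOf_dvd_iff_zpow_eq_one, zpow_sub, zpow_one, mul_inv_eq_one] at e
      rw [e] at hi
      exact (mul_inv_eq_iff_eq_mul.1 hi.symm)
    · rw [← hy, orderOf_dvd_iff_zpow_eq_one, zpow_add, zpow_one, mul_eq_one_iff_eq_inv] at e
      rw [← hi, e]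
  have hprod : ∀ v ∈ R, ∀ w ∈ R, orderOf v = 2 → orderOf w = 2 → ¬ Commute v y → ¬ Commute w y →
      Commute (v * w) y := by
    intro v hv w hw hv2 hw2 hvy hwy
    refine mul_inv_eq_iff_eq_mul.1 ?_
    calc v * w * y * (v * w)⁻¹ = v * (w * y * w⁻¹) * v⁻¹ := by group
      _ = v * y⁻¹ * v⁻¹ := by rw [hinv w hw hw2 hwy]
      _ = (v * y * v⁻¹)⁻¹ := by group
      _ = y := by rw [hinv v hv hv2 hvy, inv_inv]
  -- an element moving R
  obtain ⟨g, hgT, hgR, hgn⟩ : ∃ g ∈ (T : Subgroup G), g ∉ R ∧ g ∈ nrm R := by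
    have hlt : R.subgroupOf (T : Subgroup G) < ⊤ := by
      refine lt_top_iff_ne_top.2 fun e => hTnot fun t ht => hRM ?_
      exact mem_subgroupOf.1 (e ▸ mem_top (⟨t, ht⟩ : (T : Subgroup G)))
    haveI : Group.IsNilpotent (T : Subgroup G) := T.2.isNilpotent
    obtain ⟨g, hg1, hg2⟩ := SetLike.exists_of_lt (Group.normalizerCondition_of_isNilpotent _ hlt)
    refine ⟨g, g.2, fun e => hg2 (mem_subgroupOf.2 e), ?_⟩
    rw [Subgroup.mem_normalizer_iff]
    intro x
    constructor
    · intro hx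
      exact mem_subgroupOf.1 ((Subgroup.mem_normalizer_iff.1 hg1 ⟨x, hRT hx⟩).1 (mem_subgroupOf.2 hx))
    · intro hx
      have hxT : x ∈ (T : Subgroup G) := by
        have := mul_mem (mul_mem (inv_mem g.2) (hRT hx)) g.2
        simpa [mul_assoc] using this
      exact mem_subgroupOf.1 ((Subgroup.mem_normalizer_iff.1 hg1 ⟨x, hxT⟩).2 (mem_subgroupOf.2 hx))
  have hgM : g ∉ M := fun e => hgR (hTM g hgT e)
  -- R is abelian
  have hRc : ∀ a ∈ R, ∀ b ∈ R, a * b = b * a := by
    by_contra! hne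
    obtain ⟨a, ha, b, hb, hab⟩ := hne
    obtain ⟨x, x', hP⟩ := exists_pair hR2 hd ha hb hab
    obtain ⟨ht, -, -, -⟩ := hP.sq
    have hty : Commute (x * x) y := by
      obtain ⟨i, hi⟩ := mem_zpowers_iff.1 (conj_mem_of_mem_nrm (hMY ▸ hRM hP.1) (mem_zpowers y))
      obtain ⟨j, hj⟩ := mem_zpowers_iff.1 (conj_mem_of_mem_nrm (hMY ▸ hRM hP.2.1) (mem_zpowers y))
      have h1 : x' * x * y * (x' * x)⁻¹ = x * x' * y * (x * x')⁻¹ := by
        calc x' * x * y * (x' * x)⁻¹ = x' * (x * y * x⁻¹) * x'⁻¹ := by group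
          _ = (x' * y * x'⁻¹) ^ i := by rw [← hi, conj_zpow]
          _ = y ^ (i * j) := by rw [← hj, ← zpow_mul, mul_comm]
          _ = (x * y * x⁻¹) ^ j := by rw [← hi, ← zpow_mul]
          _ = x * (x' * y * x'⁻¹) * x⁻¹ := by rw [← hj, conj_zpow]
          _ = _ := by group
      have hrel : x' * x = x⁻¹ * x' := by
        have := hP.2.2.2.2
        rwa [mul_inv_eq_iff_eq_mul] at this
      rw [hrel] at h1
      have h2 : y = x * x * y * (x * x)⁻¹ := by
        calc y = (x⁻¹ * x')⁻¹ * (x⁻¹ * x' * y * (x⁻¹ * x')⁻¹) * (x⁻¹ * x') := by group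
          _ = (x⁻¹ * x')⁻¹ * (x * x' * y * (x * x')⁻¹) * (x⁻¹ * x') := by rw [h1]
          _ = x'⁻¹ * (x * x) * x' * y * (x'⁻¹ * (x * x) * x')⁻¹ := by group
          _ = x * x * y * (x * x)⁻¹ := by
            rw [show x'⁻¹ * (x * x) * x' = x * x by rw [← hP.2.2.2.1]; group]
      exact mul_inv_eq_iff_eq_mul.1 h2.symm
    exact hgM (centM _ ht hty ▸ mem_cent_iff.2 (pair_fixed hR2 hd hP hgn))
  have hconjR : ∀ v ∈ R, g * v * g⁻¹ ∈ R := fun v hv => conj_mem_of_mem_nrm hgn hv
  have dagger : ∀ v ∈ R, orderOf v = 2 → Commute v y → ¬ Commute (g * v * g⁻¹) y := by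
    intro v hv hv2 hvy e
    refine hgM ?_
    rw [hMdef, ← h.nrm_cent hu, Subgroup.mem_normalizer_iff_map_conj_eq]
    rw [show cent u = cent v from (centM v hv2 hvy).symm]
    show (cent v).map (MulAut.conj g).toMonoidHom = cent v
    rw [← conj_cent, centM _ ((orderOf_conj_eq g v).trans hv2) e,
      centM v hv2 hvy]
  have ddag : ∀ x ∈ R, orderOf x = 4 → Commute (x * x) y → Commute x y := by
    intro x hx hx4 hc
    have hw : orderOf (x * x) = 2 := by
      rw [← pow_two, orderOf_pow' x two_ne_zero, hx4]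
      norm_num
    have hne : zpowers x ≠ ⊥ := fun e => by
      rw [zpowers_eq_bot.1 e, orderOf_one] at hx4
      omega
    have hle : nrm (zpowers x) ≤ cent (x * x) := by
      intro n hn
      rw [← nrm_zpowers_involution hw]
      obtain ⟨k, hk⟩ := mem_zpowers_iff.1 (conj_mem_of_mem_nrm hn (mem_zpowers x))
      refine mem_nrm_zpowers ⟨k, ?_⟩
      show (x * x) ^ k = _
      rw [(Commute.refl x).mul_zpow, hk, conj_mul]
    have hN : nrm (zpowers x) = cent (x * x) := h.eq_of_le hne
      (twoPrimes_pow Nat.prime_two (k := 2) (by rw [Nat.card_zpowers, hx4]; norm_num)) hle (h.cent_ne_top hw)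
    have h1 : y * x * y⁻¹ * x⁻¹ ∈ zpowers x :=
      mul_mem (conj_mem_of_mem_nrm (hN ▸ mem_centralizer_singleton_iff.2 hc.symm.eq) (mem_zpowers x))
        (inv_mem (mem_zpowers x))
    have h2 : y * x * y⁻¹ * x⁻¹ ∈ zpowers y := by
      rw [mul_assoc y, mul_assoc y]
      refine mul_mem (mem_zpowers y) ?_
      have := conj_mem_of_mem_nrm (hMY ▸ hRM hx) (inv_mem (mem_zpowers y))
      simpa [mul_assoc] using this
    have hcop : (Nat.card (zpowers x)).Coprime (Nat.card (zpowers y)) := by
      rw [Nat.card_zpowers, Nat.card_zpowers, hx4, hy, show (4 : ℕ) = 2 ^ 2 from rfl]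
      exact ((Nat.coprime_primes Nat.prime_two hp).2 (Ne.symm hp2)).pow_left _
    have h3 := mem_bot.1 ((Subgroup.inf_eq_bot_of_coprime hcop).le (Subgroup.mem_inf.2 ⟨h1, h2⟩))
    rw [mul_inv_eq_one, mul_inv_eq_iff_eq_mul] at h3
    exact h3.symm
  have hzu : z ≠ u := fun e => hzy (e ▸ hyc)
  have hK : ∀ v ∈ R, orderOf v = 2 → Commute v y → v = u := by
    intro v hv hv2 hvy
    by_contra hne
    have hvu : orderOf (v * u) = 2 := by
      refine orderOf_eq_prime ?_ fun e => hne ?_
      · rw [(show Commute v u from hRc v hv u huR).mul_pow, orderOf_dvd_iff_pow_eq_one.1 hv2.dvd,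
          orderOf_dvd_iff_pow_eq_one.1 hu.dvd, one_mul]
      · rw [mul_eq_one_iff_eq_inv.1 e]
        exact inv_eq_of_mul_eq_one_right (by rw [← pow_two, ← hu, pow_orderOf_eq_one])
    refine dagger (v * u) (mul_mem hv huR) hvu (hvy.mul_left hyc) ?_
    rw [← conj_mul]
    exact hprod _ (hconjR v hv) _ (hconjR u huR) ((orderOf_conj_eq g v).trans hv2)
      ((orderOf_conj_eq g u).trans hu) (dagger v hv hv2 hvy) (dagger u huR hu hyc)
  have huu : u * u = 1 := by rw [← pow_two, ← hu, pow_orderOf_eq_one]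
  have hzz : z * z = 1 := by rw [← pow_two, ← hz, pow_orderOf_eq_one]
  have hzu' : z * u = u * z := hRc z hzR u huR
  have hinvR : ∀ v ∈ R, orderOf v = 2 → v = u ∨ v = z ∨ v = u * z := by
    intro v hv hv2
    by_cases hvy : Commute v y
    · exact Or.inl (hK v hv hv2 hvy)
    · right
      by_cases hvz : v = z
      · exact Or.inl hvz
      right
      have h1 : orderOf (v * z) = 2 := by
        refine orderOf_eq_prime ?_ fun e => hvz ?_
        · rw [(show Commute v z from hRc v hv z hzR).mul_pow, orderOf_dvd_iff_pow_eq_one.1 hv2.dvd,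
            orderOf_dvd_iff_pow_eq_one.1 hz.dvd, one_mul]
        · rw [mul_eq_one_iff_eq_inv.1 e]
          exact inv_eq_of_mul_eq_one_right hzz
      have h2 := hK _ (mul_mem hv hzR) h1 (hprod v hv z hzR hv2 hz hvy hzy)
      rw [← h2, mul_assoc, hzz, mul_one]
  have huz2 : orderOf (u * z) = 2 := by
    refine orderOf_eq_prime ?_ fun e => hzu ?_
    · rw [(show Commute u z from hzu'.symm).mul_pow, pow_two, huu, pow_two, hzz, one_mul]
    · calc z = u * u * z := by rw [huu, one_mul]
        _ = u * (u * z) := mul_assoc _ _ _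
        _ = u := by rw [e, mul_one]
  have hu_ne_two : ¬ IsPGroup 2 (cent u) := notTwo u hu hyc
  have hgu : g * u * g⁻¹ = u * z := by
    rcases hinvR _ (hconjR u huR) ((orderOf_conj_eq g u).trans hu) with e | e | e
    · exact absurd (mem_cent_iff.2 e : g ∈ cent u) hgM
    · exfalso
      have := isPGroup_cent_conj g⁻¹ (e ▸ hz2 : IsPGroup 2 (cent (g * u * g⁻¹)))
      rw [show g⁻¹ * (g * u * g⁻¹) * g⁻¹⁻¹ = u by group] at this
      exact hu_ne_two this
    · exact e
  have hzsq : ∀ x ∈ R, orderOf x = 4 → x * x = z := by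
    intro x hx hx4
    have hw : orderOf (x * x) = 2 := by
      rw [← pow_two, orderOf_pow' x two_ne_zero, hx4]
      norm_num
    have key : ∀ x ∈ R, orderOf x = 4 → x * x ≠ u := by
      intro x hx hx4 e
      have hc := ddag x hx hx4 (e ▸ hyc)
      have hxz4 : orderOf (x * z) = 4 := by
        have h2 : (x * z) ^ 2 = u := by
          rw [(show Commute x z from hRc x hx z hzR).mul_pow, pow_two, e, pow_two, hzz, mul_one]
        refine orderOf_eq_prime_pow (p := 2) (n := 1) (fun e' => ?_) ?_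
        · rw [pow_one, h2] at e'
          rw [e', orderOf_one] at hu
          omega
        · rw [show (2 : ℕ) ^ (1 + 1) = 2 * 2 from rfl, pow_mul, h2, pow_two, huu]
      have hc' := ddag (x * z) (mul_mem hx hzR) hxz4 (by
        rw [show x * z * (x * z) = x * x * (z * z) by
          rw [mul_assoc, ← mul_assoc z x z, hRc z hzR x hx]; group, e, hzz, mul_one]
        exact hyc)
      exact hzy (by simpa using hc.inv_left.mul_left hc')
    rcases hinvR _ (mul_mem hx hx) hw with e | e | e
    · exact absurd e (key x hx hx4)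
    · exact e
    · exfalso
      have hmem : g⁻¹ * x * g ∈ R := by
        have := conj_mem_of_mem_nrm (inv_mem hgn) hx
        rwa [inv_inv] at this
      refine key _ hmem ?_ ?_
      · have := orderOf_conj_eq g⁻¹ x
        rw [inv_inv] at this
        exact this.trans hx4
      · calc g⁻¹ * x * g * (g⁻¹ * x * g) = g⁻¹ * (x * x) * g := by group
          _ = g⁻¹ * (g * u * g⁻¹) * g := by rw [e, hgu]
          _ = u := by group
  -- the four-group of R
  set E := closure ({u, z} : Set G) with hEdef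
  have hEle : E ≤ R := (closure_le _).2 (by
    rintro w (rfl | rfl)
    · exact huR
    · exact hzR)
  have hET : nrm E = (T : Subgroup G) := by
    have hE : E ≠ ⊥ := fun e => by
      have : u ∈ E := subset_closure (Or.inl rfl)
      rw [e, mem_bot] at this
      rw [this, orderOf_one] at hu
      omega
    rw [← h.sylow_eq_cent T hTz hz2]
    refine h.eq_of_le hE (twoPrimes_pGroup (hR2.to_le hEle)) (fun n hn => mem_cent_iff.2 ?_) (h.cent_ne_top hz)
    have hz' := hEle (conj_mem_of_mem_nrm hn (subset_closure (Or.inr rfl) : z ∈ E))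
    have h2 := isPGroup_cent_conj n hz2
    rcases hinvR _ hz' ((orderOf_conj_eq n z).trans hz) with e | e | e
    · exact absurd (e ▸ h2) hu_ne_two
    · exact e
    · exfalso
      have h3 := isPGroup_cent_conj g⁻¹ h2
      rw [e, ← hgu, show g⁻¹ * (g * u * g⁻¹) * g⁻¹⁻¹ = u by group] at h3
      exact hu_ne_two h3
  have htu : ∀ t ∈ (T : Subgroup G), t * u * t⁻¹ = u ∨ t * u * t⁻¹ = u * z := by
    intro t ht
    have hm := conj_mem_of_mem_nrm (hET ▸ ht : t ∈ nrm E) (subset_closure (Or.inl rfl) : u ∈ E)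
    rcases hinvR _ (hEle hm) ((orderOf_conj_eq t u).trans hu) with e | e | e
    · exact Or.inl e
    · exfalso
      have := isPGroup_cent_conj t⁻¹ (e ▸ hz2 : IsPGroup 2 (cent (t * u * t⁻¹)))
      rw [show t⁻¹ * (t * u * t⁻¹) * t⁻¹⁻¹ = u by group] at this
      exact hu_ne_two this
    · exact Or.inr e
  have hnotR : ∀ t ∈ (T : Subgroup G), t ∉ R → t * u * t⁻¹ = u * z := fun t ht htR =>
    (htu t ht).resolve_left fun e => htR (hTM t ht (mem_cent_iff.2 e))
  -- squares
  have star : ∀ x ∈ (T : Subgroup G), orderOf x = 4 → x * x = z := by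
    intro x hx hx4
    by_cases hxR : x ∈ R
    · exact hzsq x hxR hx4
    have hw : orderOf (x * x) = 2 := by
      rw [← pow_two, orderOf_pow' x two_ne_zero, hx4]
      norm_num
    have hxu := hnotR x hx hxR
    have hxz := hzc x hx
    have hxxu : x * x * u * (x * x)⁻¹ = u := by
      calc x * x * u * (x * x)⁻¹ = x * (x * u * x⁻¹) * x⁻¹ := by group
        _ = x * (u * z) * x⁻¹ := by rw [hxu]
        _ = (x * u * x⁻¹) * (x * z * x⁻¹) := by group
        _ = u * (z * z) := by rw [hxu, hxz]; group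
        _ = u := by rw [hzz, mul_one]
    rcases hinvR _ (hTM _ (mul_mem hx hx) (mem_cent_iff.2 hxxu)) hw with e | e | e
    · exfalso
      have : x * (x * x) * x⁻¹ = x * x := by group
      rw [e, hxu, mul_eq_left] at this
      rw [this, orderOf_one] at hz
      omega
    · exact e
    · exfalso
      have h1 : x * (x * x) * x⁻¹ = x * x := by group
      rw [e, show x * (u * z) * x⁻¹ = x * u * x⁻¹ * (x * z * x⁻¹) by group, hxu, hxz, mul_assoc, hzz, mul_one,
        eq_comm, mul_eq_left] at h1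
      rw [h1, orderOf_one] at hz
      omega
  -- a conjugate of z outside R
  obtain ⟨c, hcT, hcne⟩ := h.exists_conj_ne hz T hzT
  set v := c * z * c⁻¹ with hvdef
  have hv : orderOf v = 2 := (orderOf_conj_eq c z).trans hz
  have hvv : v * v = 1 := by rw [← pow_two, ← hv, pow_orderOf_eq_one]
  have hv2 : IsPGroup 2 (cent v) := isPGroup_cent_conj c hz2
  have hvR : v ∉ R := by
    intro hm
    rcases hinvR v hm hv with e | e | e
    · exact hu_ne_two (e ▸ hv2)
    · exact hcne e
    · have h3 := isPGroup_cent_conj g⁻¹ hv2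
      rw [e, ← hgu, show g⁻¹ * (g * u * g⁻¹) * g⁻¹⁻¹ = u by group] at h3
      exact hu_ne_two h3
  have hvu : v * u * v⁻¹ = u * z := hnotR v hcT hvR
  have hvz : v * z * v⁻¹ = z := hzc v hcT
  have hcentv : cent v = (cent z).map (MulAut.conj c).toMonoidHom := conj_cent c z
  have hTeq : cent z = (T : Subgroup G) := h.sylow_eq_cent T hTz hz2
  -- R has no element of order four
  have hexp : ∀ x ∈ R, x * x = 1 := by
    intro x hx
    by_contra hx2
    obtain ⟨x, hx, hx4⟩ : ∃ x' ∈ R, orderOf x' = 4 := by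
      obtain ⟨k, hk⟩ := hR2.exists_orderOf_eq_pow ⟨x, hx⟩
      rw [Subgroup.orderOf_mk] at hk
      have hk2 : 2 ≤ k := by
        by_contra hlt
        refine hx2 ?_
        rw [← pow_two, ← orderOf_dvd_iff_pow_eq_one, hk]
        exact (pow_dvd_pow 2 (show k ≤ 1 by omega)).trans (dvd_of_eq (pow_one 2))
      refine ⟨x ^ (orderOf x / 4), pow_mem hx _, orderOf_pow_orderOf_div (orderOf_pos x).ne' ?_⟩
      rw [hk, show (4 : ℕ) = 2 ^ 2 from rfl]
      exact pow_dvd_pow 2 hk2
    have hxz := hzsq x hx hx4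
    have noc : ∀ w ∈ R, w * w = z → v * w * v⁻¹ ≠ w := by
      intro w hw hwz e
      have hw4 : orderOf w = 4 := by
        refine orderOf_eq_prime_pow (p := 2) (n := 1) (fun e' => ?_) ?_
        · rw [pow_one, pow_two, hwz] at e'
          rw [e', orderOf_one] at hz
          omega
        · rw [show (2 : ℕ) ^ (1 + 1) = 2 * 2 from rfl, pow_mul, pow_two w, hwz, pow_two, hzz]
      have hmem : w ∈ cent v := mem_centralizer_singleton_iff.2 (mul_inv_eq_iff_eq_mul.1 e).symm
      rw [hcentv, hTeq] at hmem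
      obtain ⟨w0, hw0, hw0e⟩ := hmem
      change c * w0 * c⁻¹ = w at hw0e
      have h4' : orderOf w0 = 4 := by rw [← hw4, ← hw0e, orderOf_conj_eq]
      have := star w0 hw0 h4'
      refine hcne ?_
      calc v = c * (w0 * w0) * c⁻¹ := by rw [this]
        _ = w * w := by rw [← hw0e, conj_mul]
        _ = z := hwz
    set x' := v * x * v⁻¹ with hx'
    have hx'T : x' ∈ (T : Subgroup G) := mul_mem (mul_mem hcT (hRT hx)) (inv_mem hcT)
    have hvux : ∀ w, v * (w * u) * v⁻¹ = v * w * v⁻¹ * (u * z) := fun w => by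
      rw [← hvu]; group
    have hx'M : x' ∈ R := by
      refine hTM x' hx'T (mem_cent_iff.2 ?_)
      have hxu : x * u * x⁻¹ = u := mul_inv_eq_iff_eq_mul.2 (hRc x hx u huR)
      have hvu' : v⁻¹ * u * v = u * z := by
        rw [inv_eq_of_mul_eq_one_right hvv]
        nth_rewrite 2 [← inv_eq_of_mul_eq_one_right hvv]
        exact hvu
      calc x' * u * x'⁻¹ = v * (x * (v⁻¹ * u * v) * x⁻¹) * v⁻¹ := by rw [hx']; group
        _ = v * ((x * u * x⁻¹) * (x * z * x⁻¹)) * v⁻¹ := by rw [hvu']; group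
        _ = (v * u * v⁻¹) * (v * z * v⁻¹) := by rw [hxu, hzc x (hRT hx)]; group
        _ = u * (z * z) := by rw [hvu, hvz]; group
        _ = u := by rw [hzz, mul_one]
    have hx'z : x' * x' = z := by rw [hx', conj_mul, hxz, hvz]
    have hback : v * x' * v⁻¹ = x := by
      calc v * x' * v⁻¹ = (v * v) * x * (v * v)⁻¹ := by rw [hx']; group
        _ = x := by rw [hvv]; group
    set w := x' * x⁻¹ with hw
    have hww : w ^ 2 = 1 := by
      rw [hw, (show Commute x' x⁻¹ from (show Commute x' x from hRc _ hx'M _ hx).inv_right).mul_pow, pow_two, hx'z,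
        inv_pow, pow_two, hxz, mul_inv_cancel]
    have hx'e : x' = w * x := by rw [hw, inv_mul_cancel_right]
    have hxzR : ∀ a ∈ R, a * x = x * a := fun a ha => hRc a ha x hx
    by_cases hw1 : w = 1
    · exact noc x hx hxz (by rw [← hx', hx'e, hw1, one_mul])
    rcases hinvR w (mul_mem hx'M (inv_mem hx)) (orderOf_eq_prime hww hw1) with e | e | e
    · -- x' = x u
      have h1 := hback
      rw [hx'e, e, hxzR u huR, hvux, ← hx', hx'e, e, hxzR u huR, mul_assoc x u, ← mul_assoc u u z, huu,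
        one_mul, mul_eq_left] at h1
      rw [h1, orderOf_one] at hz
      omega
    · -- x' = x z
      refine noc (x * u) (mul_mem hx huR) ?_ ?_
      · rw [mul_assoc, ← mul_assoc u x u, hRc u huR x hx, mul_assoc x u u, huu, mul_one, hxz]
      · rw [hvux, ← hx', hx'e, e, hxzR z hzR, mul_assoc x z, ← mul_assoc z u z, hzu', mul_assoc u z z, hzz,
          mul_one]
    · -- x' = x u z
      have h1 := hback
      rw [hx'e, e, hxzR _ (mul_mem huR hzR), ← mul_assoc x u z,
        show v * (x * u * z) * v⁻¹ = v * (x * u) * v⁻¹ * (v * z * v⁻¹) by group, hvux, ← hx', hvz,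
        mul_assoc x', mul_assoc u z z, hzz, mul_one, hx'e, e, hxzR _ (mul_mem huR hzR), mul_assoc x,
        mul_assoc u z u, hzu', ← mul_assoc u u z, huu, one_mul, mul_eq_left] at h1
      rw [h1, orderOf_one] at hz
      omega
  -- four-groups through z are normal in T
  have hfour : FourNormal (T : Subgroup G) z := by
    have hRv : ∀ a ∈ R, v * a * v⁻¹ = a ∨ v * a * v⁻¹ = a * z := by
      intro a ha
      by_cases ha1 : a = 1
      · exact Or.inl (by rw [ha1]; group)
      rcases hinvR a ha (orderOf_eq_prime (by rw [pow_two]; exact hexp a ha) ha1) with rfl | rfl | rfl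
      · exact Or.inr hvu
      · exact Or.inl hvz
      · right
        rw [show v * (u * z) * v⁻¹ = v * u * v⁻¹ * (v * z * v⁻¹) by group, hvu, hvz]
    have hcase : ∀ t ∈ (T : Subgroup G), t ∈ R ∨ ∃ a ∈ R, t = v * a := by
      intro t ht
      by_cases htR : t ∈ R
      · exact Or.inl htR
      refine Or.inr ⟨v⁻¹ * t, hTM _ (mul_mem (inv_mem hcT) ht) (mem_cent_iff.2 ?_), (mul_inv_cancel_left v t).symm⟩
      calc v⁻¹ * t * u * (v⁻¹ * t)⁻¹ = v⁻¹ * (t * u * t⁻¹) * v := by group
        _ = v⁻¹ * (v * u * v⁻¹) * v := by rw [hnotR t ht htR, hvu]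
        _ = u := by group
    have hRR : ∀ a ∈ R, ∀ w ∈ (T : Subgroup G), a * w * a⁻¹ = w ∨ a * w * a⁻¹ = w * z := by
      intro a ha w hw
      rcases hcase w hw with hwR | ⟨b, hb, rfl⟩
      · exact Or.inl (mul_inv_eq_iff_eq_mul.2 (hRc a ha w hwR))
      · have e1 : a * (v * b) * a⁻¹ = v * ((v⁻¹ * a * v) * a⁻¹) * b := by
          calc a * (v * b) * a⁻¹ = a * v * (b * a⁻¹) := by group
            _ = a * v * (a⁻¹ * b) := by rw [hRc b hb a⁻¹ (inv_mem ha)]
            _ = _ := by group
        have hvi : v⁻¹ * a * v = v * a * v⁻¹ := by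
          rw [inv_eq_of_mul_eq_one_right hvv]
        rcases hRv a ha with e | e
        · left; rw [e1, hvi, e]; group
        · right
          rw [e1, hvi, e, hRc a ha z hzR, mul_inv_cancel_right, mul_assoc v z b, mul_assoc v b z,
            hRc z hzR b hb]
    have hV : ∀ w ∈ (T : Subgroup G), v * w * v⁻¹ = w ∨ v * w * v⁻¹ = w * z := by
      intro w hw
      rcases hcase w hw with hwR | ⟨b, hb, rfl⟩
      · exact hRv w hwR
      · rcases hRv b hb with e | e
        · left
          calc v * (v * b) * v⁻¹ = v * (v * b * v⁻¹) := by group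
            _ = _ := by rw [e]
        · right
          calc v * (v * b) * v⁻¹ = v * (v * b * v⁻¹) := by group
            _ = _ := by rw [e]; exact (mul_assoc v b z).symm
    intro t ht w hw _
    rcases hcase t ht with htR | ⟨a, ha, rfl⟩
    · exact hRR t htR w hw
    · rcases hRR a ha w hw with e1 | e1 <;> rcases hV w hw with e2 | e2 <;>
        rw [show v * a * w * (v * a)⁻¹ = v * (a * w * a⁻¹) * v⁻¹ by group, e1]
      · exact Or.inl e2
      · exact Or.inr e2
      · right
        rw [show v * (w * z) * v⁻¹ = v * w * v⁻¹ * (v * z * v⁻¹) by group, e2, hvz]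
      · left
        rw [show v * (w * z) * v⁻¹ = v * w * v⁻¹ * (v * z * v⁻¹) by group, e2, hvz, mul_assoc, hzz, mul_one]
  -- the four-group through z and v
  set V := closure ({v, z} : Set G) with hVdef
  have hVle : V ≤ (T : Subgroup G) := (closure_le _).2 (by
    rintro w (rfl | rfl)
    · exact hcT
    · exact hzT)
  have hVb : V ≠ ⊥ := fun e => by
    have : z ∈ V := subset_closure (Or.inr rfl)
    rw [e, mem_bot] at this
    rw [this, orderOf_one] at hz
    omega
  have hTV : (T : Subgroup G) ≤ nrm V := by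
    intro t ht
    refine (Subgroup.mem_normalizer_iff_map_conj_eq.2 ?_)
    refine eq_of_le_of_card_ge ?_ (le_of_eq (Subgroup.card_map_of_injective
      (MulAut.conj t).injective).symm)
    rw [hVdef, MonoidHom.map_closure, closure_le]
    rintro w ⟨w0, hw0 | hw0, rfl⟩ <;> rw [show w0 = _ from hw0]
    · rcases hfour t ht v hcT hv with e | e <;> show t * v * t⁻¹ ∈ _ <;> rw [e]
      · exact subset_closure (Or.inl rfl)
      · exact mul_mem (subset_closure (Or.inl rfl)) (subset_closure (Or.inr rfl))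
    · show t * z * t⁻¹ ∈ _
      rw [hzc t ht]
      exact subset_closure (Or.inr rfl)
  have hVT : nrm V = (T : Subgroup G) := by
    rw [← hTeq]
    exact ((h.nrm_of_involution hz).le_iff.1 (hTeq.le.trans hTV)).resolve_left
      (h.mx V hVb (twoPrimes_pGroup (T.2.to_le hVle))).1
  have hTv : cent v ≤ nrm V := by
    intro t ht
    rw [hcentv, hTeq] at ht
    obtain ⟨t0, ht0, rfl⟩ := ht
    have hz0T : c⁻¹ * z * c ∈ (T : Subgroup G) := by
      have : z ∈ cent v := mem_centralizer_singleton_iff.2 (mul_inv_eq_iff_eq_mul.1 hvz).symm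
      rw [hcentv, hTeq] at this
      obtain ⟨z0, hz0, hz0e⟩ := this
      rw [← hz0e]
      show c⁻¹ * (c * z0 * c⁻¹) * c ∈ _
      rw [show c⁻¹ * (c * z0 * c⁻¹) * c = z0 by group]
      exact hz0
    refine (Subgroup.mem_normalizer_iff_map_conj_eq.2 ?_)
    refine eq_of_le_of_card_ge ?_ (le_of_eq (Subgroup.card_map_of_injective
      (MulAut.conj ((MulAut.conj c).toMonoidHom t0)).injective).symm)
    rw [hVdef, MonoidHom.map_closure, closure_le]
    rintro w ⟨w0, hw0 | hw0, rfl⟩ <;> rw [show w0 = _ from hw0]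
    · show c * t0 * c⁻¹ * (c * z * c⁻¹) * (c * t0 * c⁻¹)⁻¹ ∈ _
      rw [show c * t0 * c⁻¹ * (c * z * c⁻¹) * (c * t0 * c⁻¹)⁻¹ = c * (t0 * z * t0⁻¹) * c⁻¹ by group,
        hzc t0 ht0]
      exact subset_closure (Or.inl rfl)
    · show c * t0 * c⁻¹ * z * (c * t0 * c⁻¹)⁻¹ ∈ _
      rw [show c * t0 * c⁻¹ * z * (c * t0 * c⁻¹)⁻¹ = c * (t0 * (c⁻¹ * z * c) * t0⁻¹) * c⁻¹ by group]
      have ho : orderOf (c⁻¹ * z * c) = 2 := by
        have := orderOf_conj_eq c⁻¹ z
        rw [inv_inv] at this
        exact this.trans hz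
      rcases hfour t0 ht0 _ hz0T ho with e | e <;> rw [e]
      · rw [show c * (c⁻¹ * z * c) * c⁻¹ = z by group]
        exact subset_closure (Or.inr rfl)
      · rw [show c * (c⁻¹ * z * c * z) * c⁻¹ = z * (c * z * c⁻¹) by group]
        exact mul_mem (subset_closure (Or.inr rfl)) (subset_closure (Or.inl rfl))
  have huv : u ∈ cent v := by
    have h1 : cent v = cent z :=
      ((h.nrm_of_involution hv).le_iff.1 (le_of_le_of_eq hTv (hVT.trans hTeq.symm))).resolve_left
        (h.cent_ne_top hz) |>.symm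
    rw [h1, hTeq]
    exact hRT huR
  have := mem_centralizer_singleton_iff.1 huv
  rw [← this, mul_inv_cancel_right, eq_comm, mul_eq_left] at hvu
  rw [hvu, orderOf_one] at hz
  omega

/-- either every involution has a 2-group as centralizer or Sylow 2-subgroups are abelian -/
theorem dichotomy : (∀ u : G, orderOf u = 2 → IsPGroup 2 (cent u)) ∨
    ∀ T : Sylow 2 G, IsMulCommutative (T : Subgroup G) := by
  by_cases hc : ∀ (T : Sylow 2 G) (z : G), orderOf z = 2 → (T : Subgroup G) ≤ cent z → IsPGroup 2 (cent z)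
  · left
    intro u hu
    by_contra hne
    obtain ⟨y, hyc, hp, ho⟩ := exists_prime_order hne
    exact h.no_mixed hu hp (fun e => by rw [e] at ho; exact Nat.not_odd_iff_even.2 even_two ho) rfl
      (show Commute u y from (mem_centralizer_singleton_iff.1 hyc).symm) hc
  · right
    push Not at hc
    obtain ⟨T, z, hz, hT, hne⟩ := hc
    obtain ⟨y, hyc, hp, ho⟩ := exists_prime_order hne
    have h0 := h.sylow_comm hz hp (fun e => by rw [e] at ho; exact Nat.not_odd_iff_even.2 even_two ho) rfl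
      (show Commute z y from (mem_centralizer_singleton_iff.1 hyc).symm) T hT
    intro T'
    haveI := Fact.mk Nat.prime_two
    refine ⟨⟨fun a b => ?_⟩⟩
    apply (Sylow.equiv T' T).injective
    rw [map_mul, map_mul, h0.is_comm.comm]

end Hyp

end Cfsg.Agent.MaxNormalizers
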