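import Cfsg.Agent.Lib.MaxNormalizers.Socle
import Cfsg.Agent.Lib.CITClass.Sylow
import Cfsg.Agent.Lib.CIT.Classify
import Cfsg.Agent.Lib.AutPSL.Count
import Cfsg.Agent.Lib.PSL2.Eleven
import Cfsg.Agent.Lib.PSL2.Thirteen
import Cfsg.Agent.Lib.PSLClassSizes.PSLFacts
import Cfsg.Agent.S3188

/-!
# The possible socles

* `field_thirteen`: the field has thirteen elements
* `Hyp.eq_psl`: trivial radical: the group is `PSL(2,13)`
-/

set_option autoImplicit false
set_option linter.unusedSectionVars false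
set_option linter.style.haveILetI false
set_option maxHeartbeats 1000000

open Subgroup MulAction Cfsg.Agent.PSL2
open scoped Pointwise

namespace Cfsg.Agent.MaxNormalizers

variable {G : Type*} [Group G] [Finite G]

local notation "nrm" H:max => Subgroup.normalizer (SetLike.coe H)
local notation "cent" x:max => Subgroup.centralizer ({x} : Set _)
local notation "φ" => (Matrix.ProjectiveSpecialLinearGroup.toPGL : PSL2 _ →* PGL2 _)

theorem Emb.comp {S T : Type*} [Group S] [Group T] {ι : S →* G} (he : Emb ι) (e : T ≃* S) :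
    Emb (ι.comp e.toMonoidHom) := by
  have hr : (ι.comp e.toMonoidHom).range = ι.range := by
    rw [MonoidHom.range_comp, MonoidHom.range_eq_top.2 e.surjective, ← MonoidHom.range_eq_map]
  haveI := he.simple
  haveI : Nontrivial T := e.toEquiv.nontrivial
  refine ⟨he.inj.comp e.injective, by rw [hr]; exact he.normal, by rw [hr]; exact he.cent_bot,
    e.isSimpleGroup, fun hs => he.notsolv ?_⟩
  haveI := hs
  exact Group.isSolvable_of_surjective (show Function.Surjective e.toMonoidHom from e.surjective)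

section Psl

variable {F : Type*} [Field F] [Finite F] {ι : PSL2 F →* G} (he : Emb ι) (h : Hyp G)
include he h

/-- the order of the centralizer of an involution is not the 2-part with abelian Sylow subgroup -/
theorem no_abelian_cent {z : PSL2 F} (hz : orderOf z = 2) (P : Sylow 2 (PSL2 F))
    (hP : cent z = (P : Subgroup (PSL2 F)))
    (hc : ∀ a ∈ (P : Subgroup (PSL2 F)), ∀ b ∈ (P : Subgroup (PSL2 F)), a * b = b * a) : False := by
  haveI := Fact.mk Nat.prime_two
  haveI := he.simple
  have hb : (P : Subgroup (PSL2 F)) ≠ ⊥ := P.ne_bot_of_dvd_card (hz ▸ orderOf_dvd_natCard z)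
  exact abelian_sylow_selfnorm he.notsolv P (hz ▸ orderOf_dvd_natCard z) hc
    (he.four h hz P hP le_rfl hb le_normalizer)

theorem not_even (hev : Even (Nat.card F)) : False := by
  haveI := Fact.mk Nat.prime_two
  obtain ⟨p, hp⟩ := CharP.exists F
  have : Fact p.Prime := ⟨CharP.char_is_prime F p⟩
  obtain ⟨n, hn, hq, ⟨rfl, -, hd, -⟩ | ⟨-, ho, -⟩⟩ := PSL2.q_cases (F := F) p
  swap
  · exact absurd hev (Nat.not_even_iff_odd.2 ho)
  obtain ⟨z, hz⟩ := exists_psl_orderOf (F := F) 2 (m := 2) (Or.inl dvd_rfl)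
  have hcard := card_centralizer_char 2 hz
  obtain ⟨P, hP⟩ := (IsPGroup.of_card (G := cent z) (p := 2) (n := n) (hcard.trans hq)).exists_le_sylow
  have hPc : Nat.card (P : Subgroup (PSL2 F)) ∣ Nat.card F := by
    obtain ⟨k, hk⟩ := IsPGroup.iff_card.1 P.2
    have h2 := P.1.card_subgroup_dvd_card
    have hm := card_psl_mul (F := F)
    rw [hd, one_mul] at hm
    rw [hm, hk] at h2
    rw [hk]
    refine Nat.Coprime.dvd_of_dvd_mul_right (Nat.Coprime.pow_left k ?_) h2
    rw [Nat.coprime_two_left, Nat.odd_mul]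
    have := Nat.even_iff.1 hev
    have : 1 < Nat.card F := Finite.one_lt_card
    rw [Nat.odd_iff, Nat.odd_iff]
    omega
  have hPeq : cent z = (P : Subgroup (PSL2 F)) :=
    eq_of_le_of_card_ge hP (hcard ▸ Nat.le_of_dvd Nat.card_pos hPc)
  refine no_abelian_cent he h hz P hPeq fun a ha b hb => ?_
  rw [← hPeq] at ha hb
  exact (PSLClassSizes.comm_char 2 hz (mem_centralizer_singleton_iff.1 ha) (mem_centralizer_singleton_iff.1 hb)).eq

theorem not_five (hF : Nat.card F = 5) : False := by
  haveI := Fact.mk Nat.prime_two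
  haveI : Fact (Nat.Prime 5) := ⟨by norm_num⟩
  have hodd : Odd (Nat.card F) := by rw [hF]; decide
  have hm := card_psl_mul (F := F)
  rw [hF] at hm
  norm_num at hm
  have hG : Nat.card (PSL2 F) = 60 := by omega
  obtain ⟨z, hz⟩ := exists_prime_orderOf_dvd_card' (G := PSL2 F) 2 (by rw [hG]; norm_num)
  have hcard := (card_centralizer_involution hodd hz).1 (by rw [hF])
  rw [hF] at hcard
  obtain ⟨P, hP⟩ := (IsPGroup.of_card (G := cent z) (p := 2) (n := 2) (by rw [hcard]; norm_num)).exists_le_sylow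
  have hP4 : Nat.card (P : Subgroup (PSL2 F)) = 4 := by
    obtain ⟨k, hk⟩ := IsPGroup.iff_card.1 P.2
    have h1 := Subgroup.card_dvd_of_le hP
    have h2 := P.1.card_subgroup_dvd_card
    rw [hG, hk] at h2
    rw [hcard, hk, show (5 - 1 : ℕ) = 2 ^ 2 from rfl] at h1
    have h1' := (Nat.pow_dvd_pow_iff_le_right (by norm_num : 1 < 2)).1 h1
    have h3 : k < 3 := by
      by_contra hge
      have := ((pow_dvd_pow 2 (show 3 ≤ k by omega)).trans h2)
      norm_num at this
    rw [hk, show k = 2 by omega]; norm_num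
  refine no_abelian_cent he h hz P (eq_of_le_of_card_ge hP (by rw [hP4, hcard])) fun a ha b hb => ?_
  exact congrArg Subtype.val ((IsPGroup.commutative_of_card_eq_prime_sq (p := 2)
    (by rw [hP4]; norm_num : Nat.card (P : Subgroup (PSL2 F)) = 2 ^ 2)) ⟨a, ha⟩ ⟨b, hb⟩)

theorem not_dihedral_eight (hcit : CIT.IsCIT (PSL2 F)) (h79 : Nat.card F = 7 ∨ Nat.card F = 9) : False := by
  haveI := Fact.mk Nat.prime_two
  have hodd : Odd (Nat.card F) := by rcases h79 with e | e <;> rw [e] <;> decide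
  have hG : ¬ 2 ^ 4 ∣ Nat.card (PSL2 F) := by
    have hm := card_psl_mul (F := F)
    rcases h79 with e | e <;> rw [e] at hm <;> norm_num at hm ⊢ <;> omega
  obtain ⟨⟨V, hV⟩⟩ : Nonempty {V : Subgroup (PSL2 F) // IsKleinFour V} := by
    refine (Nat.card_pos_iff.1 (?_ : 0 < Nat.card {V : Subgroup (PSL2 F) // IsKleinFour V})).1
    have h1 := card_klein (F := F) hodd
    have h2 : 0 < Nat.card (PSL2 F) := Nat.card_pos
    omega
  have h2 := two_ne_zero_iff_odd.2 hodd
  have hinj : Function.Injective (φ : PSL2 F →* PGL2 F) := Matrix.ProjectiveSpecialLinearGroup.toPGL_injective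
  have hN := card_normalizer_klein h2 hV
  have hle := (klein_normalizer_le_iff hodd hV).2 (by rcases h79 with e | e <;> omega)
  have h24 : Nat.card (nrm V) = 24 := by
    have e1 : (nrm (V.map (φ : PSL2 F →* PGL2 F))).comap φ = nrm V := by
      ext n
      rw [Subgroup.mem_comap, Subgroup.mem_normalizer_iff, Subgroup.mem_normalizer_iff]
      constructor
      · intro hn x
        have := hn (φ x)
        rwa [Subgroup.mem_map_iff_mem hinj, ← map_inv, ← map_mul, ← map_mul, Subgroup.mem_map_iff_mem hinj] at this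
      · intro hn y
        constructor
        · rintro ⟨x, hx, rfl⟩
          exact ⟨n * x * n⁻¹, (hn x).1 hx, by simp⟩
        · rintro ⟨x, hx, e⟩
          refine ⟨n⁻¹ * x * n, (hn _).2 (by simpa [mul_assoc] using hx), ?_⟩
          rw [map_mul, map_mul, map_inv, e]
          group
    rw [← e1, ← Subgroup.card_map_of_injective hinj, Subgroup.map_comap_eq, inf_eq_right.2 hle, hN]
  -- a Sylow subgroup normalizing V
  obtain ⟨Q⟩ : Nonempty (Sylow 2 (nrm V : Subgroup (PSL2 F))) := inferInstance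
  set Q0 := (Q : Subgroup (nrm V : Subgroup (PSL2 F))).map (nrm V : Subgroup (PSL2 F)).subtype
  have hQ8 : Nat.card Q0 = 8 := by
    rw [Subgroup.card_map_of_injective (Subgroup.subtype_injective _)]
    have h8 : 2 ^ 3 ∣ Nat.card (Q : Subgroup (nrm V : Subgroup (PSL2 F))) :=
      Q.pow_dvd_card_of_pow_dvd_card (by rw [h24]; norm_num)
    obtain ⟨k, hk⟩ := IsPGroup.iff_card.1 Q.2
    have h2' := (Q : Subgroup (nrm V : Subgroup (PSL2 F))).card_subgroup_dvd_card
    rw [h24, hk] at h2'
    rw [hk] at h8 ⊢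
    have := (Nat.pow_dvd_pow_iff_le_right (by norm_num : 1 < 2)).1 h8
    have : k < 4 := by
      by_contra hge
      have := (pow_dvd_pow 2 (show 4 ≤ k by omega)).trans h2'
      norm_num at this
    rw [show k = 3 by omega]; norm_num
  obtain ⟨P, hP⟩ := (Q.2.map (nrm V : Subgroup (PSL2 F)).subtype).exists_le_sylow
  have hPc : Nat.card (P : Subgroup (PSL2 F)) ≤ 8 := by
    obtain ⟨k, hk⟩ := IsPGroup.iff_card.1 P.2
    have : k ≤ 3 := by
      by_contra hge
      exact hG ((pow_dvd_pow 2 (show 4 ≤ k by omega)).trans (hk ▸ P.1.card_subgroup_dvd_card))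
    rw [hk, show (8 : ℕ) = 2 ^ 3 from rfl]
    exact Nat.pow_le_pow_right two_pos this
  have hPQ : Q0 = (P : Subgroup (PSL2 F)) := eq_of_le_of_card_ge hP (hQ8 ▸ hPc)
  have hPN : (P : Subgroup (PSL2 F)) ≤ nrm V := hPQ ▸ map_subtype_le _
  have hVP : V ≤ (P : Subgroup (PSL2 F)) := by
    have hVp : IsPGroup 2 V := IsPGroup.of_card (n := 2) (by rw [hV.card_four]; norm_num)
    have : IsPGroup 2 ↥((P : Subgroup (PSL2 F)) ⊔ V) := IsPGroup.to_sup_of_normal_right' P.2 hVp hPN
    exact le_sup_right.trans (P.3 this le_sup_left).le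
  obtain ⟨z, hzP, hz, hzc⟩ := exists_central_involution P
    ((by rw [h24]; norm_num : 2 ∣ Nat.card (nrm V)).trans (Subgroup.card_subgroup_dvd_card _))
  have hcz : cent z = (P : Subgroup (PSL2 F)) := P.3 (hcit z hz) fun t ht => mem_cent_iff.2 (hzc t ht)
  have hb : V ≠ ⊥ := fun e => by
    have := hV.card_four
    rw [e, Subgroup.card_bot] at this
    omega
  have := Subgroup.card_le_of_le (he.four h hz P hcz hVP hb hPN)
  omega

/-- odd divisors of the torus orders are primes -/
theorem torus_prime {m : ℕ} (hm : Odd m) (hm1 : m ≠ 1)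
    (hd : m ∣ (Nat.card F - 1) / Nat.gcd 2 (Nat.card F - 1) ∨ m ∣ (Nat.card F + 1) / Nat.gcd 2 (Nat.card F - 1)) :
    m.Prime := by
  obtain ⟨p, hp⟩ := CharP.exists F
  have : Fact p.Prime := ⟨CharP.char_is_prime F p⟩
  obtain ⟨c, hc⟩ := exists_psl_orderOf (F := F) p (m := m) (Or.inr hd)
  have hcp : ¬ orderOf c ∣ p := by
    intro e
    rw [hc] at e
    have := ((Fact.out : p.Prime).eq_one_or_self_of_dvd _ e).resolve_left hm1
    subst this
    obtain ⟨n, hn, hq, -⟩ := PSL2.q_cases (F := F) m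
    have h1 : m ∣ Nat.card F := hq ▸ dvd_pow_self m (by omega)
    have hq1 : 1 < Nat.card F := Finite.one_lt_card
    have hg1 : Nat.gcd 2 (Nat.card F - 1) ∣ Nat.card F - 1 := Nat.gcd_dvd_right _ _
    have hg2 : Nat.gcd 2 (Nat.card F - 1) ∣ Nat.card F + 1 := by
      have := Nat.dvd_add hg1 (Nat.gcd_dvd_left 2 (Nat.card F - 1))
      rwa [show Nat.card F - 1 + 2 = Nat.card F + 1 by omega] at this
    rcases hd with h' | h'
    · have := Nat.dvd_sub h1 (h'.trans (Nat.div_dvd_of_dvd hg1))
      rw [show Nat.card F - (Nat.card F - 1) = 1 by omega, Nat.dvd_one] at this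
      exact hm1 this
    · have := Nat.dvd_sub (h'.trans (Nat.div_dvd_of_dvd hg2)) h1
      rw [Nat.add_sub_cancel_left, Nat.dvd_one] at this
      exact hm1 this
  obtain ⟨v, hv, hvc⟩ := exists_inverting (p := p) hcp
  set r := m.minFac
  have hr : r.Prime := Nat.minFac_prime hm1
  have hr2 : r ≠ 2 := fun e => Nat.not_even_iff_odd.2 (Odd.of_dvd_nat hm m.minFac_dvd)
    (show Even r by rw [e]; exact even_two)
  set y := c ^ (m / r) with hy
  have hyo : orderOf y = r := by
    rw [hy, ← hc]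
    exact orderOf_pow_orderOf_div (orderOf_pos c).ne' (hc ▸ m.minFac_dvd)
  have hv2 : orderOf v = 2 := by
    refine orderOf_eq_prime ((pow_two v).trans hv) fun e => ?_
    subst e
    rw [one_mul, inv_one, mul_one] at hvc
    have h2 : c ^ 2 = 1 := by
      rw [pow_two]; nth_rewrite 1 [hvc]; exact inv_mul_cancel c
    have := orderOf_dvd_of_pow_eq_one h2
    rw [hc] at this
    rcases (Nat.dvd_prime Nat.prime_two).1 this with e | e
    · exact hm1 e
    · subst e; exact absurd hm (by decide)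
  have hvy : v * y * v⁻¹ = y⁻¹ := by rw [hy, ← conj_pow, hvc, inv_pow]
  have h4 := he.inverted_sq h hr hr2 hyo hv2 hvy ((Commute.refl c).pow_right _) hvc
  have hd' := orderOf_dvd_of_mem_zpowers h4
  rw [hyo, ← pow_two, orderOf_pow' c two_ne_zero, hc, Nat.coprime_two_right.2 hm, Nat.div_one] at hd'
  exact ((Nat.dvd_prime hr).1 hd').resolve_left hm1 ▸ hr

theorem not_three_pow (h8 : Nat.card F % 8 = 3) (h3 : 3 ∣ Nat.card F) : False := by
  obtain ⟨p, hp⟩ := CharP.exists F
  have : Fact p.Prime := ⟨CharP.char_is_prime F p⟩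
  obtain ⟨n, hn, hq, hcases⟩ := PSL2.q_cases (F := F) p
  obtain rfl : 3 = p := (Nat.prime_dvd_prime_iff_eq (by norm_num) Fact.out).1
    (Nat.Prime.dvd_of_dvd_pow (by norm_num) (hq ▸ h3))
  have hgcd : Nat.gcd 2 (Nat.card F - 1) = 2 := by
    rcases hcases with ⟨h', -⟩ | ⟨-, -, h', -⟩
    · norm_num at h'
    · exact h'
  obtain ⟨y, hy⟩ := exists_psl_orderOf (F := F) 3 (m := 3) (Or.inl dvd_rfl)
  set C := cent y with hC
  have hCc : Nat.card C = Nat.card F := card_centralizer_char 3 hy
  have hy1 : y ≠ 1 := fun e => by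
    rw [e, orderOf_one] at hy; omega
  have hφy : (φ : PSL2 F →* PGL2 F) y ≠ 1 := fun e => by
    rw [← map_one (φ : PSL2 F →* PGL2 F)] at e
    exact hy1 (Matrix.ProjectiveSpecialLinearGroup.toPGL_injective e)
  have hy3 : y ^ 3 = 1 := by rw [← hy, pow_orderOf_eq_one]
  have hφy3 : (φ : PSL2 F →* PGL2 F) y ^ 3 = 1 := by rw [← map_pow, hy3, map_one]
  have hnC : nrm (zpowers y) = C := by
    refine le_antisymm (fun g hg => ?_) fun g hg => mem_nrm_zpowers (by
      rw [mem_cent_iff.1 hg]; exact mem_zpowers y)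
    obtain ⟨i, hi⟩ := mem_zpowers_iff.1 (conj_mem_of_mem_nrm hg (mem_zpowers y))
    obtain ⟨Pt0, hP0⟩ := exists_fix_of_pow_char (F := F) 3 hy3
    have hP0' : (φ : PSL2 F →* PGL2 F) y • Pt0 = Pt0 := by rw [toPGL_smul]; exact hP0
    have hyiP : (y ^ i) • Pt0 = Pt0 := by
      have : y ^ i ∈ stabilizer (PSL2 F) Pt0 := zpow_mem (mem_stabilizer_iff.2 hP0) i
      exact this
    have hgP : g • Pt0 = Pt0 := by
      rw [hi] at hyiP
      have h5 : y • (g⁻¹ • Pt0) = g⁻¹ • Pt0 := by
        calc y • (g⁻¹ • Pt0) = g⁻¹ • ((g * y * g⁻¹) • Pt0) := by rw [smul_smul, smul_smul]; group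
          _ = _ := by rw [hyiP]
      have h6 := eq_of_fix_pow_char 3 hφy hφy3 hP0' (by rw [toPGL_smul]; exact h5 : (φ : PSL2 F →* PGL2 F) y • (g⁻¹ • Pt0) = g⁻¹ • Pt0)
      nth_rewrite 1 [h6]
      rw [smul_inv_smul]
    have hgodd : Odd (orderOf g) := by
      have hd : orderOf g ∣ Nat.card (stabilizer (PSL2 F) Pt0) := by
        rw [← Subgroup.orderOf_mk g (mem_stabilizer_iff.2 hgP)]
        exact orderOf_dvd_natCard _
      refine Odd.of_dvd_nat ?_ hd
      have hb := card_borel_mul (F := F) Pt0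
      rw [hgcd] at hb
      obtain ⟨a, ha⟩ : ∃ a, Nat.card F = 8 * a + 3 := ⟨Nat.card F / 8, by omega⟩
      rw [ha, show 8 * a + 3 - 1 = 2 * (4 * a + 1) by omega, mul_left_comm] at hb
      rw [Nat.eq_of_mul_eq_mul_left two_pos hb, Nat.odd_mul]
      exact ⟨⟨4 * a + 1, by omega⟩, ⟨2 * a, by omega⟩⟩
    refine mem_cent_iff.2 ?_
    -- the image of g in Aut <y> has odd order dividing two
    have hyy : g * g * y * (g * g)⁻¹ = y := by
      have e1 : g * g * y * (g * g)⁻¹ = y ^ (i * i) := by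
        calc g * g * y * (g * g)⁻¹ = g * (g * y * g⁻¹) * g⁻¹ := by group
          _ = (g * y * g⁻¹) ^ i := by rw [conj_zpow, hi]
          _ = _ := by rw [← hi, ← zpow_mul]
      rw [e1]
      have hi3 : i % 3 = 1 ∨ i % 3 = 2 := by
        by_contra hne
        have h0 : i % 3 = 0 := by omega
        have : g * y * g⁻¹ = 1 := by
          rw [← hi, ← orderOf_dvd_iff_zpow_eq_one, hy]
          exact Int.dvd_of_emod_eq_zero h0
        exact hy1 (conj_eq_one_iff.1 this)
      conv_rhs => rw [← zpow_one y]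
      rw [zpow_eq_zpow_iff_modEq, hy, Int.ModEq]
      push_cast
      rw [Int.mul_emod]
      rcases hi3 with e | e <;> rw [e] <;> norm_num
    obtain ⟨s, hs⟩ := exists_pow_eq_self_of_coprime (x := g) (n := 2) (Nat.coprime_two_left.2 hgodd)
    have hgs : g * g ∈ C := mem_cent_iff.2 hyy
    have : (g ^ 2) ^ s ∈ C := pow_mem ((pow_two g).symm ▸ hgs) s
    rw [hs] at this
    exact mem_cent_iff.1 this
  have hb : zpowers y ≠ ⊥ := fun e => hy1 (zpowers_eq_bot.1 e)
  have hTP : TwoPrimes (Nat.card (zpowers y)) :=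
    twoPrimes_pow (p := 3) (by norm_num) (k := 1) (by rw [Nat.card_zpowers, hy, pow_one])
  have hNC := he.nrm_nrm h hb hTP
  rw [hnC] at hNC
  haveI : Fact (Nat.Prime 3) := ⟨by norm_num⟩
  obtain ⟨P, hP⟩ := (IsPGroup.of_card (G := C) (p := 3) (n := n) (hCc.trans hq)).exists_le_sylow
  have hPc : Nat.card (P : Subgroup (PSL2 F)) ∣ Nat.card F := by
    obtain ⟨k, hk⟩ := IsPGroup.iff_card.1 P.2
    have h2 := P.1.card_subgroup_dvd_card
    have hm := card_psl_mul (F := F)
    rw [hgcd] at hm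
    rw [hk] at h2
    have h2' : 3 ^ k ∣ Nat.card F * ((Nat.card F + 1) * (Nat.card F - 1)) := hm ▸ Dvd.dvd.mul_left h2 2
    rw [hk]
    refine Nat.Coprime.dvd_of_dvd_mul_right (Nat.Coprime.pow_left k ?_) h2'
    rw [Nat.Prime.coprime_iff_not_dvd (by norm_num), Nat.Prime.dvd_mul (by norm_num)]
    have : 1 < Nat.card F := Finite.one_lt_card
    omega
  have hPeq : C = (P : Subgroup (PSL2 F)) := eq_of_le_of_card_ge hP (hCc ▸ Nat.le_of_dvd Nat.card_pos hPc)
  haveI := he.simple
  refine abelian_sylow_selfnorm he.notsolv P (hy ▸ orderOf_dvd_natCard y) (fun a ha b hb => ?_) ?_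
  · rw [← hPeq] at ha hb
    exact (PSLClassSizes.comm_char 3 hy (mem_centralizer_singleton_iff.1 ha) (mem_centralizer_singleton_iff.1 hb)).eq
  · rw [← hPeq]
    exact hNC.le

theorem cit_field (hcit : CIT.IsCIT (PSL2 F))
    (hl : Nat.card F = 9 ∨ (∃ n : ℕ, Nat.card F = 2 ^ n) ∨
      ((Nat.card F).Prime ∧ ∃ k : ℕ, Nat.card F = 2 ^ k + 1 ∨ Nat.card F + 1 = 2 ^ k)) : False := by
  rcases hl with e | ⟨n, e⟩ | ⟨hpr, k, hk⟩
  · exact not_dihedral_eight he h hcit (Or.inr e)
  · refine not_even he h ?_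
    rw [e]
    refine Nat.even_pow.2 ⟨even_two, ?_⟩
    rintro rfl
    have : 1 < Nat.card F := Finite.one_lt_card
    rw [e, pow_zero] at this
    omega
  obtain ⟨q, hq⟩ : ∃ q, Nat.card F = q := ⟨_, rfl⟩
  rcases eq_or_ne q 2 with rfl | hq2
  · exact not_even he h (by rw [hq]; exact even_two)
  rcases eq_or_ne q 5 with rfl | hq5
  · exact not_five he h hq
  rcases eq_or_ne q 7 with rfl | hq7
  · exact not_dihedral_eight he h hcit (Or.inl hq)
  have hqo : q % 2 = 1 := Nat.odd_iff.1 ((hq ▸ hpr).odd_of_ne_two hq2)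
  rcases eq_or_ne q 3 with rfl | hq3
  · -- the group is solvable
    haveI := he.simple
    have hm := card_psl_mul (F := F)
    rw [hq] at hm
    norm_num at hm
    exact he.notsolv (solvable_of_twoPrimes (twoPrimes_mul Nat.prime_two (by norm_num : Nat.Prime 3)
      (a := 2) (b := 1) (by rw [show Nat.card (PSL2 F) = 12 by omega]; norm_num)))
  have h3 : ¬ 3 ∣ q := fun hd => hq3 ((Nat.prime_dvd_prime_iff_eq (by norm_num) (hq ▸ hpr)).1 hd).symm
  have hk3 : 3 ≤ k := by
    by_contra hlt
    have : 2 ^ k ≤ 2 ^ 2 := Nat.pow_le_pow_right two_pos (by omega)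
    have h1 := (hq ▸ hpr).two_le
    norm_num at this
    omega
  obtain ⟨j, rfl⟩ : ∃ j, k = j + 3 := ⟨k - 3, by omega⟩
  rw [pow_add, show (2 : ℕ) ^ 3 = 8 from rfl] at hk
  have hg : Nat.gcd 2 (Nat.card F - 1) = 2 := by
    rw [hq]; exact Nat.gcd_eq_left (by omega)
  -- the odd torus
  obtain ⟨m, hm, hmd⟩ : ∃ m, (q = 2 * m + 1 ∨ q + 1 = 2 * m) ∧ m % 2 = 1 := by
    rcases hk with e | e
    · exact ⟨(q + 1) / 2, Or.inr (by omega), by omega⟩
    · exact ⟨(q - 1) / 2, Or.inl (by omega), by omega⟩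
  have hdvd : m ∣ (Nat.card F - 1) / Nat.gcd 2 (Nat.card F - 1) ∨
      m ∣ (Nat.card F + 1) / Nat.gcd 2 (Nat.card F - 1) := by
    rw [hg, hq]
    rcases hm with e | e
    · exact Or.inl (dvd_of_eq (by omega))
    · exact Or.inr (dvd_of_eq (by omega))
  have h3m : 3 ∣ m := by
    have : 2 ^ j % 3 = 1 ∨ 2 ^ j % 3 = 2 := by
      have := Nat.pow_mod 2 j 3
      rcases Nat.even_or_odd' j with ⟨i, rfl | rfl⟩
      · left; rw [pow_mul, Nat.pow_mod]; norm_num
      · right; rw [pow_succ, pow_mul, Nat.mul_mod, Nat.pow_mod]; norm_num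
    omega
  have hp' := torus_prime he h (m := m) (Nat.odd_iff.2 hmd) (by omega) hdvd
  have := (Nat.prime_dvd_prime_iff_eq (by norm_num : Nat.Prime 3) hp').1 h3m
  omega

theorem abelian_field (hl : (Nat.card F % 8 = 3 ∨ Nat.card F % 8 = 5) ∧ 5 ≤ Nat.card F ∨
      ∃ n : ℕ, 2 ≤ n ∧ Nat.card F = 2 ^ n) : Nat.card F = 11 ∨ Nat.card F = 13 := by
  rcases hl with ⟨h8, h5⟩ | ⟨n, hn, e⟩
  swap
  · exact (not_even he h (by rw [e]; exact Nat.even_pow.2 ⟨even_two, by omega⟩)).elim
  obtain ⟨q, hq⟩ : ∃ q, Nat.card F = q := ⟨_, rfl⟩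
  rcases eq_or_ne q 5 with rfl | hq5
  · exact (not_five he h hq).elim
  have hg : Nat.gcd 2 (Nat.card F - 1) = 2 := Nat.gcd_eq_left (by omega)
  by_cases h3 : 3 ∣ q
  · rcases h8 with e | e
    · exact (not_three_pow he h e (hq ▸ h3)).elim
    · exfalso
      obtain ⟨p, hp⟩ := CharP.exists F
      have : Fact p.Prime := ⟨CharP.char_is_prime F p⟩
      obtain ⟨n, -, hqn, -⟩ := PSL2.q_cases (F := F) p
      obtain rfl : 3 = p := (Nat.prime_dvd_prime_iff_eq (by norm_num) Fact.out).1
        (Nat.Prime.dvd_of_dvd_pow (by norm_num) (hqn ▸ hq ▸ h3))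
      rw [hqn] at e
      rcases Nat.even_or_odd' n with ⟨i, rfl | rfl⟩ <;>
        simp [pow_succ, pow_mul, Nat.pow_mod, Nat.mul_mod] at e
  have key : ∀ m, m % 2 = 1 → 3 ∣ m → (m ∣ (q - 1) / 2 ∨ m ∣ (q + 1) / 2) → m = 3 := by
    intro m hmo h3m hd
    have hm1 : m ≠ 1 := fun e => by subst e; norm_num at h3m
    have := torus_prime he h (m := m) (Nat.odd_iff.2 hmo) hm1 (by rw [hg, hq]; exact hd)
    exact ((Nat.prime_dvd_prime_iff_eq (by norm_num : Nat.Prime 3) this).1 h3m).symm
  rw [hq] at h8 h5 ⊢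
  rcases h8 with e | e <;> by_cases hm : q % 3 = 1
  · have := key ((q - 1) / 2) (by omega) (by omega) (Or.inl dvd_rfl); omega
  · have := key ((q + 1) / 4) (by omega) (by omega) (Or.inr ⟨2, by omega⟩); omega
  · have := key ((q - 1) / 4) (by omega) (by omega) (Or.inl ⟨2, by omega⟩); omega
  · have := key ((q + 1) / 2) (by omega) (by omega) (Or.inr dvd_rfl); omega

theorem mulAut_card (hpr : (Nat.card F).Prime) (ho : Nat.card F ≠ 2) :
    Nat.card (MulAut (PSL2 F)) = 2 * Nat.card (PSL2 F) := by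
  haveI : Fintype F := Fintype.ofFinite F
  haveI := Fact.mk hpr
  have h1 := AutPSL.card_mulAut (F := F) (m := 0) (Nat.card F) 1 le_rfl (pow_one _).symm
  simp only [↓reduceIte, one_mul] at h1
  refine h1.trans ?_
  have h2 := card_psl_mul (F := F)
  rw [Nat.gcd_eq_left (by have := hpr.odd_of_ne_two ho; rw [Nat.odd_iff] at this; omega)] at h2
  rw [h2]
  show Nat.card (PGL2 F) = _
  rw [card_pgl_eq]

theorem not_eleven (hbij : Function.Bijective ι) (hF : Nat.card F = 11) : False := by
  haveI : Fact (Nat.Prime 5) := ⟨by norm_num⟩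
  haveI := Fact.mk Nat.prime_two
  haveI := he.simple
  obtain ⟨K, ⟨e⟩⟩ := exists_altFive_eleven (F := F) hF
  have hG := card_psl_eleven (F := F) hF
  have hd : ∃ a b : alternatingGroup (Fin 5), a ^ 5 = 1 ∧ a ≠ 1 ∧ b ^ 2 = 1 ∧ b ≠ 1 ∧ b * a * b⁻¹ = a⁻¹ := by
    refine ⟨⟨(Equiv.swap 0 4) * (Equiv.swap 0 3) * (Equiv.swap 0 2) * (Equiv.swap 0 1),
        Equiv.Perm.mem_alternatingGroup.2 (by decide)⟩,
      ⟨(Equiv.swap 1 4) * (Equiv.swap 2 3), Equiv.Perm.mem_alternatingGroup.2 (by decide)⟩, ?_, ?_, ?_, ?_, ?_⟩ <;>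
      decide
  obtain ⟨a, b, ha, ha1, hb, hb1, hab⟩ := hd
  set y : PSL2 F := ((e.symm a : K) : PSL2 F)
  set v : PSL2 F := ((e.symm b : K) : PSL2 F)
  have hy : orderOf y = 5 := by
    show orderOf ((e.symm a : K) : PSL2 F) = 5
    rw [Subgroup.orderOf_coe, MulEquiv.orderOf_eq]
    exact orderOf_eq_prime ha ha1
  have hv : orderOf v = 2 := by
    show orderOf ((e.symm b : K) : PSL2 F) = 2
    rw [Subgroup.orderOf_coe, MulEquiv.orderOf_eq]
    exact orderOf_eq_prime hb hb1
  have hvy : v * y * v⁻¹ = y⁻¹ := by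
    have := congrArg (fun w => ((e.symm w : K) : PSL2 F)) hab
    simpa using this
  set N := nrm (zpowers y) with hN
  have hne : zpowers y ≠ ⊥ := fun e' => by
    rw [zpowers_eq_bot.1 e', orderOf_one] at hy; omega
  have hTP : TwoPrimes (Nat.card (zpowers y)) :=
    twoPrimes_pow (p := 5) (by norm_num) (k := 1) (by rw [Nat.card_zpowers, hy, pow_one])
  -- the order of N
  obtain ⟨P, hP⟩ := (IsPGroup.of_card (G := zpowers y) (p := 5) (n := 1)
    (by rw [Nat.card_zpowers, hy, pow_one])).exists_le_sylow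
  have hP5 : Nat.card (P : Subgroup (PSL2 F)) = 5 := by
    obtain ⟨k, hk⟩ := IsPGroup.iff_card.1 P.2
    have h1 := P.1.card_subgroup_dvd_card
    have h2 := Subgroup.card_dvd_of_le hP
    rw [Nat.card_zpowers, hy, hk] at h2
    rw [hG, hk] at h1
    have hk1 : k = 1 := by
      rcases k with _ | _ | k
      · norm_num at h2
      · rfl
      · have h25 : 5 ^ 2 ∣ 660 := (pow_dvd_pow 5 (by omega)).trans h1
        norm_num at h25
    rw [hk, hk1]; norm_num
  have hPy : zpowers y = (P : Subgroup (PSL2 F)) :=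
    eq_of_le_of_card_ge hP (by rw [hP5, Nat.card_zpowers, hy])
  have hyN : zpowers y ≤ N := le_normalizer
  have hvN : v ∈ N := mem_nrm_zpowers (by rw [hvy]; exact inv_mem (mem_zpowers y))
  have h10 : Nat.card N = 10 := by
    have hidx : Nat.card (Sylow 5 (PSL2 F)) = N.index := by
      rw [Sylow.card_eq_index_normalizer P, ← Sylow.coe_coe, hN, hPy]
    have hmod := card_sylow_modEq_one 5 (PSL2 F)
    rw [hidx, Nat.ModEq] at hmod
    have h2 : 2 ∣ Nat.card N := by
      have := orderOf_dvd_natCard (⟨v, hvN⟩ : N)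
      rwa [Subgroup.orderOf_mk, hv] at this
    have hbound : Nat.card N ≤ 20 := by
      haveI : Fact (Nat.Prime 11) := ⟨by norm_num⟩
      obtain ⟨p11, hp11⟩ := CharP.exists F
      haveI : Fact p11.Prime := ⟨CharP.char_is_prime F p11⟩
      obtain ⟨n11, hn11, hq11, -⟩ := PSL2.q_cases (F := F) p11
      rw [hF] at hq11
      obtain rfl : 11 = p11 := (Nat.prime_dvd_prime_iff_eq (by norm_num) Fact.out).1
        (Nat.Prime.dvd_of_dvd_pow (by norm_num) (dvd_of_eq hq11))
      obtain ⟨y', hy', hCy, hyo⟩ := centralizer_torus (F := F) (x := y) 11 (by rw [hy]; norm_num) (by omega)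
      have hy'5 : orderOf y' = 5 := by
        have h5' : 5 ∣ orderOf y' := hy ▸ orderOf_dvd_of_mem_zpowers hy'
        rw [hF] at hyo
        norm_num at hyo
        omega
      let f := (zpowers y).normalizerMonoidHom
      have h1 := Subgroup.card_mul_index f.ker
      rw [Subgroup.index_ker] at h1
      have h3 : Nat.card f.range ≤ 4 := by
        haveI : Finite (MulAut (zpowers y)) :=
          Finite.of_injective (fun α : MulAut (zpowers y) => (α : zpowers y → zpowers y)) DFunLike.coe_injective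
        refine (Subgroup.card_le_card_group f.range).trans (le_of_eq ?_)
        rw [IsCyclic.card_mulAut, Nat.card_zpowers, hy]
        rfl
      have h4 : Nat.card f.ker ≤ 5 := by
        rw [Subgroup.normalizerMonoidHom_ker, ← hy'5, ← Nat.card_zpowers, ← hCy]
        refine Nat.card_le_card_of_injective (fun w => (⟨((w.1 : nrm (zpowers y)) : PSL2 F),
          mem_centralizer_singleton_iff.2 (mem_centralizer_iff.1 (mem_subgroupOf.1 w.2) y (mem_zpowers y)).symm⟩ :
            cent y)) ?_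
        intro w w' hw
        exact Subtype.ext (Subtype.ext (congrArg (fun u : cent y => (u : PSL2 F)) hw))
      calc Nat.card N = Nat.card f.ker * Nat.card f.range := h1.symm
        _ ≤ 5 * 4 := Nat.mul_le_mul h4 h3
    have h5 : 5 ∣ Nat.card N := by
      have := Subgroup.card_dvd_of_le hyN
      rwa [Nat.card_zpowers, hy] at this
    have hmul := N.card_mul_index
    rw [hG] at hmul
    obtain ⟨a', ha'⟩ : 10 ∣ Nat.card N := Nat.Coprime.mul_dvd_of_dvd_of_dvd (by norm_num : Nat.Coprime 2 5) h2 h5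
    rw [ha'] at hmul ⊢
    have hle : a' ≤ 66 := by
      have : 1 ≤ N.index := Nat.one_le_iff_ne_zero.2 Subgroup.index_ne_zero_of_finite
      nlinarith
    have hmul' : a' * N.index = 66 := by
      rw [mul_assoc] at hmul
      omega
    have hd66 : a' ∣ 66 := ⟨_, hmul'.symm⟩
    have hNt : N ≠ ⊤ := by
      intro e'
      have hn := normalizer_eq_top_iff.1 e'
      rcases hn.eq_bot_or_eq_top with e1 | e1
      · exact hne e1
      · have := congrArg (fun K : Subgroup (PSL2 F) => Nat.card K) e1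
        simp only [Nat.card_zpowers, hy, Subgroup.card_top, hG] at this
        omega
    have hi1 : N.index ≠ 1 := fun e' => hNt (Subgroup.index_eq_one.1 e')
    have : a' ∈ Nat.divisors 66 := Nat.mem_divisors.2 ⟨hd66, by norm_num⟩
    rw [show Nat.divisors 66 = {1, 2, 3, 6, 11, 22, 33, 66} by decide] at this
    simp only [Finset.mem_insert, Finset.mem_singleton] at this
    rcases this with rfl | rfl | rfl | rfl | rfl | rfl | rfl | rfl <;> omega
  have hNK : N ≤ K := by
    set D := zpowers y ⊔ zpowers v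
    have hD : D ≤ N := sup_le hyN (zpowers_le.2 hvN)
    have hDK : D ≤ K := sup_le (zpowers_le.2 (e.symm a).2) (zpowers_le.2 (e.symm b).2)
    refine le_trans (le_of_eq (eq_of_le_of_card_ge hD ?_).symm) hDK
    rw [h10]
    refine Nat.le_of_dvd Nat.card_pos (Nat.Coprime.mul_dvd_of_dvd_of_dvd (by norm_num : Nat.Coprime 2 5) ?_ ?_)
    · have := Subgroup.card_dvd_of_le (le_sup_right : zpowers v ≤ D)
      rwa [Nat.card_zpowers, hv] at this
    · have := Subgroup.card_dvd_of_le (le_sup_left : zpowers y ≤ D)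
      rwa [Nat.card_zpowers, hy] at this
  have hco : IsCoatom (nrm (zpowers (ι y))) := h.mx _ (h.zpowers_ne_bot fun e' => by
    have := (he.orderOf_map h y).trans hy
    rw [e', orderOf_one] at this
    omega) (twoPrimes_pow (p := 5) (by norm_num) (k := 1)
      (by rw [Nat.card_zpowers, he.orderOf_map h y, hy, pow_one]))
  have hmap : nrm (zpowers (ι y)) = N.map ι := by
    ext g
    obtain ⟨n, rfl⟩ := hbij.2 g
    rw [← MonoidHom.map_zpowers, he.mem_nrm_map h, Subgroup.mem_map_iff_mem hbij.1]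
  rw [hmap] at hco
  have hK60 : Nat.card K = 60 := (Nat.card_congr e.toEquiv).trans card_alt_five
  rcases hco.le_iff.1 (Subgroup.map_mono hNK) with h' | h'
  · have := congrArg (fun K : Subgroup G => Nat.card K) h'
    simp only [he.card_map h, hK60, Subgroup.card_top] at this
    have h2 := Nat.card_eq_of_bijective ι hbij
    omega
  · have := congrArg (fun K : Subgroup G => Nat.card K) h'
    simp only [he.card_map h, hK60, h10] at this
    omega

end Psl

/-- trivial radical: the group is `PSL(2,13)` -/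
theorem Hyp.eq_psl (h : Hyp G) (hns : ¬ Group.IsSolvable G) :
    Nonempty (G ≃* Matrix.ProjectiveSpecialLinearGroup (Fin 2) (ZMod 13)) := by
  haveI := Fact.mk Nat.prime_two
  obtain ⟨S, he⟩ := h.exists_emb hns
  haveI := he.simple
  have hnc : ∃ a b : S, a * b ≠ b * a := by
    by_contra! hc
    exact he.notsolv (Group.isSolvable_of_comm hc)
  have h2S : 2 ∣ Nat.card S := CIT.two_dvd_card hnc
  rcases h.dichotomy with hcit | habel
  · exfalso
    have hG : CIT.IsCIT S := by
      intro t ht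
      have h1 := hcit (t : G) (by rw [Subgroup.orderOf_coe, ht])
      refine (h1.comap_of_injective S.subtype Subtype.coe_injective).to_le ?_
      intro w hw
      rw [Subgroup.mem_comap]
      exact mem_centralizer_singleton_iff.2 (congrArg Subtype.val (mem_centralizer_singleton_iff.1 hw))
    by_cases hn : CIT.TIMod S
    · obtain ⟨P⟩ : Nonempty (Sylow 2 S) := inferInstance
      obtain ⟨z, hzP, hz, hzc⟩ := exists_central_involution P h2S
      have hcz : cent z = (P : Subgroup S) := P.3 (hG z hz) fun t ht => mem_cent_iff.2 (hzc t ht)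
      refine ti_sylow_selfnorm he.notsolv P h2S (fun Q hQ => (hn P Q hQ).trans (CIT.pCore_eq_bot hnc))
        (he.four h hz P hcz le_rfl (P.ne_bot_of_dvd_card h2S) le_normalizer)
    obtain ⟨D₁, D₂, T, q, hp⟩ := CIT.exists_pair hG (CIT.hyp hG) (CIT.pCore_eq_bot hnc) hn
    rcases hp.q_cases hG (CIT.pCore_eq_bot hnc) with rfl | rfl
    · obtain ⟨F, iF, iT, hl, ⟨e⟩⟩ := CIT.pslList_of_four hnc hG hp
      have heF := he.comp e.symm
      refine cit_field heF h ?_ (by rw [Nat.card_eq_fintype_card]; exact hl)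
      intro t ht
      have h1 := hG (e.symm t) ((MulEquiv.orderOf_eq e.symm t).trans ht)
      intro w
      obtain ⟨k, hk⟩ := h1 ⟨e.symm w.1, mem_centralizer_singleton_iff.2 (by
        rw [← map_mul, ← map_mul, mem_centralizer_singleton_iff.1 w.2])⟩
      exact ⟨k, Subtype.ext (e.symm.injective (by
        rw [OneMemClass.coe_one, map_one, SubgroupClass.coe_pow, map_pow]
        exact congrArg Subtype.val hk))⟩
    · obtain ⟨P, hP⟩ := CITClass.sylow_of_four hp hG
      obtain ⟨z, hzP, hz, hzc⟩ := exists_central_involution P h2S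
      have hcz : cent z = (P : Subgroup S) := P.3 (hG z hz) fun t ht => mem_cent_iff.2 (hzc t ht)
      have := he.four h hz P hcz (hP ▸ hp.rad₁.le) hp.rad₁.ne (hP ▸ hp.rad₁.T_le)
      exact hp.rad₁.not_normal ((hP ▸ this).trans le_normalizer)
  · obtain ⟨T⟩ : Nonempty (Sylow 2 G) := inferInstance
    obtain ⟨P⟩ : Nonempty (Sylow 2 S) := inferInstance
    have hPc : IsMulCommutative (P : Subgroup S) := by
      obtain ⟨Q, hQ⟩ := (P.2.map S.subtype).exists_le_sylow
      refine ⟨⟨fun a b => Subtype.ext (Subtype.ext ?_)⟩⟩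
      have := congrArg Subtype.val ((habel Q).is_comm.comm ⟨_, hQ ⟨a, a.2, rfl⟩⟩ ⟨_, hQ ⟨b, b.2, rfl⟩⟩)
      simpa using this
    rcases S3188.result P hPc (fun t ht => by
      haveI := h.cent_solvable (u := (t : G)) (by rw [Subgroup.orderOf_coe, ht])
      let f : cent t →* cent (t : G) :=
        { toFun := fun w => ⟨((w : S) : G), mem_centralizer_singleton_iff.2
            (congrArg Subtype.val (mem_centralizer_singleton_iff.1 w.2))⟩
          map_one' := rfl
          map_mul' := fun _ _ => rfl }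
      exact Group.isSolvable_of_isSolvable_injective (f := f) (fun a b hab => Subtype.ext (Subtype.ext
        (congrArg (fun w : cent (t : G) => (w : G)) hab)))) with hs | ⟨F, iF, iT, hl, N, hN, ⟨e⟩, -⟩
    · exact absurd hs he.notsolv
    have hcore : Cfsg.oddCore S = ⊥ := by
      refine (Cores.pPrimeCore_normal 2 S).eq_bot_or_eq_top.resolve_right fun e2 => ?_
      have hodd := Cores.coprime_card_pPrimeCore (G := S) 2
      rw [e2, Subgroup.card_top] at hodd
      exact he.notsolv (OddOrderTheorem.solvable (Nat.coprime_two_left.1 hodd.symm))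
    haveI := hN
    have hNtop : N = ⊤ := by
      have hpsl : Nontrivial (PSL2 F) := by
        have : IsSimpleGroup (PSL2 F) := isSimpleGroup_psl (by
          rw [Nat.card_eq_fintype_card]
          rcases hl with ⟨-, h5⟩ | ⟨n, hn, hn'⟩
          · omega
          · rw [hn']; exact (Nat.pow_le_pow_right two_pos hn : 2 ^ 2 ≤ 2 ^ n))
        infer_instance
      have hsurj := QuotientGroup.mk'_surjective (Cfsg.oddCore S)
      rcases (hN.comap (QuotientGroup.mk' (Cfsg.oddCore S))).eq_bot_or_eq_top with e1 | e1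
      · exfalso
        have hb : N = ⊥ := by
          rw [← Subgroup.map_comap_eq_self_of_surjective hsurj N, e1, Subgroup.map_bot]
        haveI : Subsingleton N := by rw [hb]; infer_instance
        exact not_subsingleton (PSL2 F) e.symm.toEquiv.subsingleton
      · rw [← Subgroup.map_comap_eq_self_of_surjective hsurj N, e1, Subgroup.map_top_of_surjective _ hsurj]
    let e' : S ≃* PSL2 F := (QuotientGroup.quotientBot.symm.trans
      (QuotientGroup.quotientMulEquivOfEq hcore.symm)).trans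
        ((Subgroup.topEquiv.symm.trans (MulEquiv.subgroupCongr hNtop.symm)).trans e)
    have heF := he.comp e'.symm
    have hq := abelian_field heF h (by rw [Nat.card_eq_fintype_card]; exact hl)
    have hbij := heF.bijective h habel (mulAut_card heF h (by rcases hq with q | q <;> rw [q] <;> norm_num)
      (by rcases hq with q | q <;> omega))
    rcases hq with hF | hF
    · exact (not_eleven heF h hbij hF).elim
    haveI : Fact (Nat.Prime 13) := ⟨by norm_num⟩
    have hF' : Fintype.card F = 13 := Nat.card_eq_fintype_card.symm.trans hF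
    exact ⟨(MulEquiv.ofBijective _ hbij).symm.trans
      (pslEquiv (ZMod.ringEquivOfPrime F (by norm_num) hF').symm)⟩

end Cfsg.Agent.MaxNormalizers
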