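import Cfsg.Agent.Lib.MaxNormalizers.Models
import Cfsg.Agent.Lib.MaxNormalizers.Cover
import Cfsg.Agent.Lib.PReduced.Tools

/-!
# The radical: from the radical quotient to the group

* `hyp_quotient`: the hypothesis passes to the quotient by the radical
* `Ext.exists_decomposition`: the group is a perfect cover of `PSL(2,13)` times an abelian group
-/

set_option autoImplicit false
set_option linter.unusedSectionVars false
set_option linter.style.haveILetI false

open Subgroup
open scoped commutatorElement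

namespace Cfsg.Agent.MaxNormalizers

/-- the normalizer of a subgroup -/
local notation "nrm" H:max => Subgroup.normalizer (SetLike.coe H)

local notation "SL13" => Matrix.SpecialLinearGroup (Fin 2) (ZMod 13)
local notation "P13" => Matrix.ProjectiveSpecialLinearGroup (Fin 2) (ZMod 13)

variable {G : Type*} [Group G] [Finite G]

/-- a minimal supplement has no new primes -/
theorem primes_of_minimal (K : Subgroup G) [K.Normal] (hmin : ∀ X : Subgroup G, X ⊔ K = ⊤ → X = ⊤)
    {r : ℕ} (hr : r.Prime) (hd : r ∣ Nat.card G) : r ∣ K.index := by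
  by_contra hne
  haveI := Fact.mk hr
  obtain ⟨P⟩ : Nonempty (Sylow r K) := inferInstance
  set P' := (P : Subgroup K).map K.subtype with hP'
  haveI hn : P'.Normal := normalizer_eq_top_iff.1 (hmin _ (Sylow.normalizer_sup_eq_top P))
  have hdK : r ∣ Nat.card K := by
    rw [← K.card_mul_index] at hd
    exact ((Nat.Prime.dvd_mul hr).1 hd).resolve_right hne
  have hcard : Nat.card P' = Nat.card (P : Subgroup K) := card_map_of_injective K.subtype_injective
  have hcop : (Nat.card P').Coprime P'.index := by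
    rw [hcard, index_map_subtype]
    obtain ⟨n, hn'⟩ := IsPGroup.iff_card.1 P.2
    rw [hn']
    exact Nat.Coprime.pow_left _ ((hr.coprime_iff_not_dvd).2 fun h =>
      ((Nat.Prime.dvd_mul hr).1 h).elim P.not_dvd_index hne)
  obtain ⟨C, hC⟩ := exists_right_complement'_of_coprime hcop
  have hCt : C = ⊤ := hmin C (top_le_iff.1 (hC.sup_eq_top.ge.trans (sup_le (le_sup_right.trans' (map_subtype_le _))
    le_sup_left)))
  have h1 := hC.disjoint
  rw [hCt, disjoint_top] at h1
  rw [h1, Subgroup.card_bot] at hcard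
  exact P.ne_bot_of_dvd_card hdK (card_eq_one.1 hcard.symm)

section Lift

variable {Q : Type*} [Group Q] [Finite Q]

theorem not_subnormal {H : Subgroup G} (hT : TwoPrimes (Nat.card H)) (hHR : ¬ H ≤ CentreFreeThree.rad G) :
    ¬ H.IsSubnormal := by
  intro hsn
  refine hHR ?_
  haveI : Group.IsSolvable H := solvable_of_twoPrimes hT
  have := subnormal_rad_le hsn
  rw [top_le_iff.1 (CentreFreeThree.le_rad (N := (⊤ : Subgroup H)) inferInstance inferInstance),
    ← MonoidHom.range_eq_map, range_subtype] at this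
  exact this

variable (h : ∀ H : Subgroup G, ¬ H.IsSubnormal → TwoPrimes (Nat.card H) →
  IsCoatom (Subgroup.normalizer (H : Set G)))
include h

/-- the normalizer is a full preimage -/
theorem nrm_eq_comap (f : G →* Q) (hf : Function.Surjective f) (hker : f.ker = CentreFreeThree.rad G)
    (hrf : ∀ N : Subgroup Q, N.Normal → Group.IsSolvable N → N = ⊥)
    {H : Subgroup G} (hT : TwoPrimes (Nat.card H)) (hb : H.map f ≠ ⊥) :
    nrm H = (nrm (H.map f)).comap f ∧ nrm (H.map f) ≠ ⊤ ∧ IsCoatom (nrm H) := by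
  have hHR : ¬ H ≤ CentreFreeThree.rad G := fun e => hb ((Subgroup.map_eq_bot_iff _).2 (hker ▸ e))
  have hco := h H (not_subnormal hT hHR) hT
  have hne : nrm (H.map f) ≠ ⊤ := fun e => by
    refine hb (hrf _ (normalizer_eq_top_iff.1 e) ?_)
    haveI : Group.IsSolvable H := solvable_of_twoPrimes hT
    exact Solvable.isSolvable_map f H
  refine ⟨((hco.le_iff.1 (fun g hg => mem_comap.2 (le_normalizer_map f ⟨g, hg, rfl⟩))).resolve_left fun e => hne ?_).symm,
    hne, hco⟩
  rw [← map_comap_eq_self_of_surjective hf (nrm (H.map f)), e, map_top_of_surjective f hf]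

theorem hyp_quotient : Hyp (G ⧸ CentreFreeThree.rad G) := by
  set f := QuotientGroup.mk' (CentreFreeThree.rad G)
  have hf : Function.Surjective f := QuotientGroup.mk'_surjective _
  have hrf : ∀ N : Subgroup (G ⧸ CentreFreeThree.rad G), N.Normal → Group.IsSolvable N → N = ⊥ :=
    fun N hN hs => eq_bot_iff.2 (CentreFreeThree.rad_quotient.le.trans' (CentreFreeThree.le_rad hN hs))
  refine ⟨hrf, fun H hb hT => ?_⟩
  obtain ⟨H0, hH0, hmin⟩ := wellFounded_lt.has_min {X : Subgroup G | X.map f = H}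
    ⟨H.comap f, map_comap_eq_self_of_surjective hf H⟩
  simp only [Set.mem_setOf_eq] at hH0 hmin
  let f0 : H0 →* (G ⧸ CentreFreeThree.rad G) := f.comp H0.subtype
  have hrange : f0.range = H := by rw [MonoidHom.range_comp, range_subtype, hH0]
  have hT0 : TwoPrimes (Nat.card H0) := by
    obtain ⟨p, q, hp, hq, hpq⟩ := hT
    refine ⟨p, q, hp, hq, fun r hr hd => hpq r hr ?_⟩
    have := primes_of_minimal f0.ker (fun X hX => ?_) hr hd
    · rwa [index_ker, hrange] at this
    · by_contra hX'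
      refine hmin (X.map H0.subtype) ?_ ((map_subtype_le X).lt_of_ne fun e => hX' ?_)
      · rw [map_map, ← hrange, MonoidHom.range_eq_map, ← hX, Subgroup.map_sup,
          (Subgroup.map_eq_bot_iff _).2 le_rfl, sup_bot_eq]
      · exact map_injective H0.subtype_injective (e.trans (by rw [← MonoidHom.range_eq_map, range_subtype]))
  obtain ⟨e, hne, hco⟩ := nrm_eq_comap h f hf (QuotientGroup.ker_mk' _) hrf hT0 (hH0 ▸ hb)
  rw [hH0] at e hne
  refine ⟨hne, fun X hX => ?_⟩
  refine comap_injective hf ?_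
  rw [comap_top]
  refine hco.2 _ ?_
  rw [e]
  exact (comap_lt_comap_of_surjective hf).2 hX

end Lift

/-- an extension of `PSL(2,13)` in which the normalizers are full preimages -/
structure Ext (G : Type*) [Group G] where
  /-- the projection -/
  φ : G →* Matrix.ProjectiveSpecialLinearGroup (Fin 2) (ZMod 13)
  surj : Function.Surjective φ
  key : ∀ H : Subgroup G, TwoPrimes (Nat.card H) → H.map φ ≠ ⊥ →
    Subgroup.normalizer (H : Set G) = (Subgroup.normalizer ((H.map φ) : Set _)).comap φ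

theorem exists_ext (hG : ¬ Group.IsSolvable G) (h : ∀ H : Subgroup G, ¬ H.IsSubnormal → TwoPrimes (Nat.card H) →
    IsCoatom (Subgroup.normalizer (H : Set G))) : Nonempty (Ext G) := by
  haveI : Fact (Nat.Prime 13) := ⟨by norm_num⟩
  have hQ := hyp_quotient h
  obtain ⟨e⟩ := hQ.eq_psl fun hs => hG (CentreFreeThree.solvable_of_normal inferInstance hs)
  let φ := e.toMonoidHom.comp (QuotientGroup.mk' (CentreFreeThree.rad G))
  have hsurj : Function.Surjective φ := e.surjective.comp (QuotientGroup.mk'_surjective _)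
  have hker : φ.ker = CentreFreeThree.rad G := by
    ext x
    rw [MonoidHom.mem_ker, ← QuotientGroup.eq_one_iff (N := CentreFreeThree.rad G)]
    exact e.map_eq_one_iff
  refine ⟨⟨φ, hsurj, fun H hT hb => (nrm_eq_comap h φ hsurj hker (fun N hN hs => ?_) hT hb).1⟩⟩
  have h1 : N.comap e.toMonoidHom = ⊥ := by
    refine hQ.rf _ (hN.comap _) ?_
    rw [comap_equiv_eq_map_symm']
    haveI := hs
    exact Solvable.isSolvable_map _ N
  rw [← map_comap_eq_self_of_surjective (f := e.toMonoidHom) e.surjective N, h1, Subgroup.map_bot]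

theorem card_sl : Nat.card SL13 = 2184 := by
  haveI : Fact (Nat.Prime 13) := ⟨by norm_num⟩
  rw [GLOrder.card_SL_two, Nat.card_zmod]
  norm_num

theorem card_p13 : Nat.card P13 = 1092 := by
  haveI : Fact (Nat.Prime 13) := ⟨by norm_num⟩
  exact PSL2.card_psl_thirteen (F := ZMod 13) (Nat.card_zmod 13)

theorem simple_p13 : IsSimpleGroup P13 := by
  haveI : Fact (Nat.Prime 13) := ⟨by norm_num⟩
  exact PSL2.isSimpleGroup_psl (L := ZMod 13) (by rw [Nat.card_zmod]; norm_num)

theorem commutator_p13 : ⁅(⊤ : Subgroup P13), (⊤ : Subgroup P13)⁆ = ⊤ := by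
  have hs : Function.Surjective (QuotientGroup.mk' (center SL13)) := QuotientGroup.mk'_surjective _
  rw [← Subgroup.map_top_of_surjective _ hs, ← Subgroup.map_commutator, ← commutator_def, commutator_sl_thirteen]

/-- a four group of `PSL(2,13)` with an element of order three -/
theorem exists_four : ∃ u w : P13, u * u = 1 ∧ u * w = w * u ∧ w ≠ 1 ∧ w ≠ u ∧
    ∃ a : P13, a * u * a⁻¹ = w ∧ a * w * a⁻¹ = u * w := by
  let i : SL13 := ⟨!![5, 0; 0, 8], by rw [Matrix.det_fin_two_of]; decide⟩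
  let j : SL13 := ⟨!![0, 1; 12, 0], by rw [Matrix.det_fin_two_of]; decide⟩
  let a : SL13 := ⟨!![10, 10; 11, 2], by rw [Matrix.det_fin_two_of]; decide⟩
  have hm : ∀ g g' : SL13, (g.1 = g'.1 ∨ g.1 = (-g').1) →
      (QuotientGroup.mk g : P13) = QuotientGroup.mk g' := fun g g' hg => by
    refine QuotientGroup.eq.2 (Subgroup.mem_center_iff.2 fun y => ?_)
    rcases hg with h | h <;> obtain rfl := Subtype.ext h <;> simp
  have hne : ∀ g : SL13, g.1 ≠ 1 → g.1 ≠ -1 → (QuotientGroup.mk g : P13) ≠ 1 := fun g h1 h2 e => by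
    haveI : Fact (Nat.Prime 13) := ⟨by norm_num⟩
    exact (PSL2.mk_eq_one_iff.1 e).elim (fun h => h1 (congrArg Subtype.val h))
      (fun h => h2 (congrArg Subtype.val h))
  refine ⟨QuotientGroup.mk i, QuotientGroup.mk j, ?_, ?_, hne j (by decide +kernel) (by decide +kernel),
    fun e => ?_, QuotientGroup.mk a, ?_, ?_⟩
  · rw [← QuotientGroup.mk_mul, ← QuotientGroup.mk_one]
    exact hm _ _ (by decide +kernel)
  · rw [← QuotientGroup.mk_mul, ← QuotientGroup.mk_mul]
    exact hm _ _ (by decide +kernel)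
  · refine hne (i⁻¹ * j) (by decide +kernel) (by decide +kernel) ?_
    rw [QuotientGroup.mk_mul, QuotientGroup.mk_inv, e, inv_mul_cancel]
  · rw [← QuotientGroup.mk_mul, ← QuotientGroup.mk_inv, ← QuotientGroup.mk_mul]
    exact hm _ _ (by decide +kernel)
  · rw [← QuotientGroup.mk_mul, ← QuotientGroup.mk_inv, ← QuotientGroup.mk_mul, ← QuotientGroup.mk_mul]
    exact hm _ _ (by decide +kernel)

namespace Ext

variable (E : Ext G)

theorem exists_elt {D : Subgroup G} (hD : D.map E.φ = ⊤) {p : ℕ} (hp : p.Prime) (hd : p ∣ 1092) :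
    ∃ x ∈ D, ThreeSizes.IsElt p x ∧ E.φ x ≠ 1 := by
  haveI := Fact.mk hp
  obtain ⟨y, hy⟩ := exists_prime_orderOf_dvd_card' (G := P13) p (card_p13 ▸ hd)
  obtain ⟨g, hg, rfl⟩ := (hD ▸ mem_top y : y ∈ D.map E.φ)
  obtain ⟨u, w, hgu, -, hu, -, hup, hw⟩ := ThreeSizes.exists_parts hp g
  refine ⟨u, zpowers_le.2 hg hu, hup, fun e => hw ?_⟩
  rw [hgu, map_mul, e, one_mul] at hy
  exact hy ▸ orderOf_map_dvd E.φ w

theorem map_ne_bot {H : Subgroup G} {x : G} (hx : x ∈ H) (h1 : E.φ x ≠ 1) : H.map E.φ ≠ ⊥ :=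
  fun e => h1 (Subgroup.mem_bot.1 (e ▸ mem_map_of_mem E.φ hx))

theorem ker_le_nrm {H : Subgroup G} (hT : TwoPrimes (Nat.card H)) (hb : H.map E.φ ≠ ⊥) :
    E.φ.ker ≤ nrm H := by
  rw [E.key H hT hb]
  intro r hr
  rw [mem_comap, MonoidHom.mem_ker.1 hr]
  exact one_mem _

theorem exists_least : ∃ D : Subgroup G, D.Normal ∧ D.map E.φ = ⊤ ∧
    ∀ T : Subgroup G, T.Normal → T.map E.φ = ⊤ → D ≤ T := by
  obtain ⟨D, ⟨hDn, hD⟩, hmin⟩ := wellFounded_lt.has_min {X : Subgroup G | X.Normal ∧ X.map E.φ = ⊤}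
    ⟨⊤, inferInstance, map_top_of_surjective _ E.surj⟩
  refine ⟨D, hDn, hD, fun T hT hTm => ?_⟩
  haveI := hDn; haveI := hT
  have h1 : (D ⊓ T).map E.φ = ⊤ := by
    rw [eq_top_iff, ← commutator_p13]
    nth_rewrite 1 [← hD]
    rw [← hTm, ← map_commutator]
    exact map_mono (commutator_le_inf D T)
  exact (eq_of_le_of_not_lt inf_le_left (hmin _ ⟨inferInstance, h1⟩)).ge.trans inf_le_right

variable {D : Subgroup G} (hDn : D.Normal) (hD : D.map E.φ = ⊤)
  (hleast : ∀ T : Subgroup G, T.Normal → T.map E.φ = ⊤ → D ≤ T)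
include hDn hD hleast

theorem perfect : commutator D = ⊤ := by
  haveI := hDn
  have h : D ≤ ⁅D, D⁆ := hleast _ inferInstance (by rw [map_commutator, hD, commutator_p13])
  refine map_injective D.subtype_injective ?_
  rw [map_subtype_commutator, ← MonoidHom.range_eq_map, range_subtype]
  exact le_antisymm (commutator_le_self D) h

omit hDn in
theorem comm_mem_pCore {p : ℕ} (hp : p.Prime) (hd : p ∣ 1092) {d r : G} (hdD : d ∈ D) (hr : r ∈ E.φ.ker) :
    ⁅d, r⁆ ∈ Cfsg.pCore p G := by
  haveI := Fact.mk hp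
  haveI := simple_p13
  obtain ⟨x, -, ⟨k, hk⟩, hx1⟩ := E.exists_elt hD hp hd
  set O := Cfsg.pCore p G with hO
  haveI hOn : O.Normal := PReduced.pCore_normal p G
  have hsub : zpowers x ⊓ E.φ.ker ≤ O := by
    refine PReduced.le_pCore_of_isSubnormal (IsSubnormal.step _ E.φ.ker inf_le_right
      (Normal.isSubnormal inferInstance) ?_) ((IsPGroup.of_card (n := k) (by rw [Nat.card_zpowers, hk])).to_le inf_le_left)
    refine normal_subgroupOf_of_le_normalizer ?_
    intro s hs
    have h1 := E.ker_le_nrm (twoPrimes_pow hp (k := k) (by rw [Nat.card_zpowers, hk]))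
      (E.map_ne_bot (mem_zpowers x) hx1) hs
    rw [Subgroup.mem_normalizer_iff] at h1 ⊢
    exact fun y => Iff.and (h1 y) ⟨fun hy => Normal.conj_mem inferInstance y hy s, fun hy => by
      simpa [mul_assoc] using Normal.conj_mem (inferInstance : E.φ.ker.Normal) _ hy s⁻¹⟩
  let q := QuotientGroup.mk' O
  set T := (centralizer ((E.φ.ker.map q : Subgroup (G ⧸ O)) : Set (G ⧸ O))).comap q with hT
  haveI : (E.φ.ker.map q).Normal := Normal.map inferInstance _ (QuotientGroup.mk'_surjective O)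
  have hTn : T.Normal := inferInstance
  have hxT : x ∈ T := by
    rw [hT, mem_comap, mem_centralizer_iff]
    rintro _ ⟨s, hs, rfl⟩
    refine (commutatorElement_eq_one_iff_mul_comm.1 ?_).symm
    rw [← map_commutatorElement]
    refine (QuotientGroup.eq_one_iff _).2 (hsub (mem_inf.2 ⟨?_, ?_⟩))
    · rw [commutatorElement_def, mul_assoc x, mul_assoc x]
      refine mul_mem (mem_zpowers x) ?_
      have := conj_mem_of_mem_nrm (E.ker_le_nrm (twoPrimes_pow hp (k := k) (by rw [Nat.card_zpowers, hk]))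
        (E.map_ne_bot (mem_zpowers x) hx1) hs) (inv_mem (mem_zpowers x))
      simpa [mul_assoc] using this
    · rw [commutatorElement_def]
      exact mul_mem (Normal.conj_mem inferInstance s hs x) (inv_mem hs)
  have hTm : T.map E.φ = ⊤ := ((hTn.map _ E.surj).eq_bot_or_eq_top).resolve_left (E.map_ne_bot hxT hx1)
  have hdT := hleast T hTn hTm hdD
  rw [hT, mem_comap, mem_centralizer_iff] at hdT
  refine (QuotientGroup.eq_one_iff _).1 ?_
  show q ⁅d, r⁆ = 1
  rw [map_commutatorElement]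
  exact commutatorElement_eq_one_iff_mul_comm.2 (hdT _ (mem_map_of_mem q hr)).symm

omit hDn in
theorem commute_ker {d r : G} (hdD : d ∈ D) (hr : r ∈ E.φ.ker) : Commute d r := by
  haveI := Fact.mk Nat.prime_two
  haveI : Fact (Nat.Prime 7) := ⟨by norm_num⟩
  obtain ⟨i, hi⟩ := IsPGroup.iff_card.1 (PReduced.isPGroup_pCore (G := G) 2)
  obtain ⟨j, hj⟩ := IsPGroup.iff_card.1 (PReduced.isPGroup_pCore (G := G) 7)
  refine commutatorElement_eq_one_iff_mul_comm.1 (Subgroup.mem_bot.1 ((Subgroup.inf_eq_bot_of_coprime ?_).le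
    (mem_inf.2 ⟨E.comm_mem_pCore hD hleast Nat.prime_two (by norm_num) hdD hr,
      E.comm_mem_pCore hD hleast (by norm_num : Nat.Prime 7) (by norm_num) hdD hr⟩)))
  rw [hi, hj]
  exact Nat.Coprime.pow _ _ (by norm_num)

theorem model : Nonempty (D ≃* P13) ∨ Nonempty (D ≃* SL13) := by
  refine cover_thirteen (E.φ.comp D.subtype) (fun y => ?_) (fun x hx => mem_center_iff.2 fun g => ?_)
    (E.perfect hDn hD hleast)
  · obtain ⟨g, hg, rfl⟩ := (hD ▸ mem_top y : y ∈ D.map E.φ)
    exact ⟨⟨g, hg⟩, rfl⟩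
  · exact Subtype.ext (E.commute_ker hD hleast g.2 hx).eq

theorem card_dvd : Nat.card D ∣ 2184 := by
  rcases E.model hDn hD hleast with ⟨⟨e⟩⟩ | ⟨⟨e⟩⟩
  · rw [Nat.card_congr e.toEquiv, card_p13]; norm_num
  · rw [Nat.card_congr e.toEquiv, card_sl]

theorem card_inf_dvd : Nat.card (D ⊓ E.φ.ker : Subgroup G) ∣ 2 := by
  have h1 := Subgroup.card_mul_index (E.φ.comp D.subtype).ker
  rw [index_ker, MonoidHom.range_comp, range_subtype, hD, Subgroup.card_top, card_p13] at h1
  have h2 : Nat.card (D ⊓ E.φ.ker : Subgroup G) = Nat.card (E.φ.comp D.subtype).ker := by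
    rw [← MonoidHom.comap_ker, ← card_map_of_injective (f := D.subtype) D.subtype_injective, map_comap_eq,
      range_subtype]
  have h3 := E.card_dvd hDn hD hleast
  rw [← h1, show (2184 : ℕ) = 2 * 1092 from rfl] at h3
  rw [h2]
  exact Nat.dvd_of_mul_dvd_mul_right (by norm_num) h3

theorem pow_two_eq_one {z : G} (hzD : z ∈ D) (hz : z ∈ E.φ.ker) : orderOf z ∣ 2 :=
  (Subgroup.orderOf_dvd_natCard (s := D ⊓ E.φ.ker) (mem_inf.2 ⟨hzD, hz⟩)).trans (E.card_inf_dvd hDn hD hleast)

/-- cyclic subgroups of prime power order in the kernel are normalized by the kernel -/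
theorem conj_mem {c : G} (hc : c ∈ E.φ.ker) {p k : ℕ} (hp : p.Prime) (hck : orderOf c = p ^ k) {g : G}
    (hg : g ∈ E.φ.ker) : g * c * g⁻¹ ∈ zpowers c := by
  obtain ⟨l, hl, hlp, hld⟩ : ∃ l : ℕ, l.Prime ∧ l ≠ p ∧ l ∣ 1092 := by
    by_cases h3 : p = 3
    · exact ⟨7, by norm_num, by omega, by norm_num⟩
    · exact ⟨3, by norm_num, Ne.symm h3, by norm_num⟩
  obtain ⟨x, hxD, ⟨i, hi⟩, hx1⟩ := E.exists_elt hD hl hld
  have hcom : Commute c x := (E.commute_ker hD hleast hxD hc).symm
  have hcop : (orderOf c).Coprime (orderOf x) := by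
    rw [hck, hi]
    exact ((Nat.coprime_primes hp hl).2 (Ne.symm hlp)).pow _ _
  have hT : TwoPrimes (Nat.card (zpowers (c * x))) := by
    rw [Nat.card_zpowers, hcom.orderOf_mul_eq_mul_orderOf_of_coprime hcop, hck, hi]
    exact twoPrimes_mul hp hl (dvd_refl _)
  refine conj_mem_zpowers_left hcom hcop (E.ker_le_nrm hT (E.map_ne_bot (mem_zpowers (c * x)) ?_) hg)
  rwa [map_mul, MonoidHom.mem_ker.1 hc, one_mul]

/-- no element of odd order outside `D` on top of `D` -/
theorem mem_of_odd {p : ℕ} (hp : p.Prime) (hp2 : p ≠ 2) (hd : p ∣ 1092) {c : G} (hc : c ∈ E.φ.ker)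
    (hcp : c ^ p = 1) : c ∈ D := by
  haveI := Fact.mk hp
  by_contra hcD
  have hc1 : orderOf c = p := orderOf_eq_prime hcp fun e => hcD (e ▸ one_mem D)
  have hdD : p ∣ Nat.card D := by
    rcases E.model hDn hD hleast with ⟨⟨e⟩⟩ | ⟨⟨e⟩⟩
    · rwa [Nat.card_congr e.toEquiv, card_p13]
    · rw [Nat.card_congr e.toEquiv, card_sl]; exact hd.trans (by norm_num)
  obtain ⟨P⟩ : Nonempty (Sylow p D) := inferInstance
  have hPc : Nat.card (P : Subgroup D) = p := by
    obtain ⟨m, hm⟩ := IsPGroup.iff_card.1 P.2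
    have hmp : 1 ≤ m := by
      rcases Nat.eq_zero_or_pos m with rfl | h0
      · exact absurd (card_eq_one.1 (hm.trans (pow_zero p))) (P.ne_bot_of_dvd_card hdD)
      · exact h0
    rcases hmp.eq_or_lt with rfl | hlt
    · rw [hm, pow_one]
    · exfalso
      have h1 : p ^ 2 ∣ 2184 := ((pow_dvd_pow p hlt).trans (hm ▸ card_subgroup_dvd_card _)).trans (E.card_dvd hDn hD hleast)
      have h2 : p ∈ (1092 : ℕ).divisors := Nat.mem_divisors.2 ⟨hd, by norm_num⟩
      have key : ∀ q ∈ (1092 : ℕ).divisors, q ^ 2 ∣ 2184 → q = 1 ∨ q = 2 := by decide +kernel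
      exact (key p h2 h1).elim hp.ne_one hp2
  haveI : IsCyclic (P : Subgroup D) := isCyclic_of_prime_card hPc
  obtain ⟨y, hy⟩ := IsCyclic.exists_generator (α := (P : Subgroup D))
  obtain ⟨n, hnP, hnC⟩ : ∃ n : D, n ∈ nrm (P : Subgroup D) ∧ ¬ Commute n (y : D) := by
    by_contra! hno
    have hP : nrm (P : Subgroup D) ≤ centralizer ((P : Subgroup D) : Set D) := fun n hn => by
      rw [mem_centralizer_iff]
      intro z hz
      obtain ⟨i, hi⟩ := mem_zpowers_iff.1 (hy ⟨z, hz⟩)
      rw [← show (((y ^ i : (P : Subgroup D))) : D) = z from congrArg Subtype.val hi, SubgroupClass.coe_zpow]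
      exact ((hno n hn).zpow_right i).eq.symm
    have hperf := E.perfect hDn hD hleast
    haveI hPm : IsMulCommutative (P : Subgroup D) := IsCyclic.isMulCommutative
    have hcomp := MonoidHom.ker_transferSylow_isComplement' P hP
    have hk : (MonoidHom.transferSylow P hP).ker = ⊤ := by
      rw [eq_top_iff, ← hperf, commutator_def, commutator_le]
      intro g _ g' _
      rw [MonoidHom.mem_ker, map_commutatorElement]
      exact commutatorElement_eq_one_iff_mul_comm.2 (hPm.is_comm.comm _ _)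
    rw [hk] at hcomp
    exact P.ne_bot_of_dvd_card hdD (isComplement'_top_left.1 hcomp)
  set z : G := ((y : D) : G)
  have hzo : orderOf z = p := by
    rw [Subgroup.orderOf_coe, Subgroup.orderOf_coe, orderOf_eq_card_of_forall_mem_zpowers hy, hPc]
  have hz1 : E.φ z ≠ 1 := fun e => hp2 ((Nat.prime_dvd_prime_iff_eq hp Nat.prime_two).1
    (hzo ▸ E.pow_two_eq_one hDn hD hleast (y : D).2 e))
  obtain ⟨j, hj⟩ := mem_zpowers_iff.1 (hy ⟨n * (y : D) * n⁻¹, conj_mem_of_mem_nrm hnP y.2⟩)
  have hj' : (n : G) * z * (n : G)⁻¹ = z ^ j := (congrArg (fun w : (P : Subgroup D) => ((w : D) : G)) hj).symm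
  have hcom : Commute z c := E.commute_ker hD hleast (y : D).2 hc
  have hT : TwoPrimes (Nat.card (zpowers (z * c))) := by
    rw [Nat.card_zpowers]
    refine twoPrimes_pow hp (k := 1) (orderOf_dvd_of_pow_eq_one ?_)
    rw [pow_one, hcom.mul_pow, hcp, mul_one, ← hzo, pow_orderOf_eq_one]
  have hφ : E.φ (z * c) = E.φ z := by rw [map_mul, MonoidHom.mem_ker.1 hc, mul_one]
  have hn : (n : G) ∈ nrm (zpowers (z * c)) := by
    rw [E.key _ hT (E.map_ne_bot (mem_zpowers _) (hφ ▸ hz1)), mem_comap, MonoidHom.map_zpowers, hφ]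
    refine mem_nrm_zpowers ?_
    rw [← map_inv, ← map_mul, ← map_mul, hj', map_zpow]
    exact zpow_mem (mem_zpowers _) j
  obtain ⟨i, hi⟩ := mem_zpowers_iff.1 (conj_mem_of_mem_nrm hn (mem_zpowers (z * c)))
  have hnc : (n : G) * c * (n : G)⁻¹ = c := by
    rw [(E.commute_ker hD hleast n.2 hc).eq, mul_inv_cancel_right]
  rw [conj_mul.symm, hj', hnc, hcom.mul_zpow] at hi
  have h1 : c ^ (i - 1) = z ^ (j - i) := by
    calc c ^ (i - 1) = (z ^ i)⁻¹ * (z ^ i * c ^ i) * c⁻¹ := by group
      _ = (z ^ i)⁻¹ * (z ^ j * c) * c⁻¹ := by rw [hi]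
      _ = _ := by group
  have h2 : c ^ (i - 1) = 1 := by
    by_contra hne
    refine hcD ?_
    obtain ⟨t, ht⟩ := mem_zpowers_iff.1 (mem_zpowers_of_prime_card
      (by rw [Nat.card_zpowers, hc1] : Nat.card (zpowers c) = p)
      (g := ⟨c ^ (i - 1), zpow_mem (mem_zpowers c) _⟩) (g' := ⟨c, mem_zpowers c⟩) (fun e => hne (congrArg Subtype.val e)))
    rw [show c = (z ^ (j - i)) ^ t from h1 ▸ (congrArg Subtype.val ht).symm]
    exact zpow_mem (zpow_mem (y : D).2 _) t
  have h3 : z ^ j = z := by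
    have hd1 : ((p : ℕ) : ℤ) ∣ i - 1 := hc1 ▸ orderOf_dvd_iff_zpow_eq_one.2 h2
    have hd2 : ((p : ℕ) : ℤ) ∣ j - i := hzo ▸ orderOf_dvd_iff_zpow_eq_one.2 (h1 ▸ h2)
    have : z ^ (j - 1) = 1 := orderOf_dvd_iff_zpow_eq_one.1 (hzo.symm ▸ (by
      have := dvd_add hd2 hd1
      rwa [sub_add_sub_cancel] at this))
    rwa [zpow_sub_one, mul_inv_eq_one] at this
  refine hnC (Subtype.ext ?_)
  show (n : G) * z = z * (n : G)
  rw [← mul_inv_eq_iff_eq_mul, hj', h3]

/-- no involution outside `D` on top of `D` -/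
theorem mem_of_even {c : G} (hc : c ∈ E.φ.ker) (hc2 : c ^ 2 ∈ D) : c ∈ D := by
  haveI := Fact.mk Nat.prime_two
  by_contra hcD
  obtain ⟨u, w, huu, huw, hw1, hwu, a', hau, haw⟩ := exists_four
  obtain ⟨e, heD, rfl⟩ := (hD ▸ mem_top u : u ∈ D.map E.φ)
  obtain ⟨a, haD, rfl⟩ := (hD ▸ mem_top a' : a' ∈ D.map E.φ)
  set u := E.φ e with hu
  set f := a * e * a⁻¹ with hf
  have hfD : f ∈ D := hDn.conj_mem e heD a
  have hfw : E.φ f = w := by rw [hf, map_mul, map_mul, map_inv, hau]
  have hww : w * w = 1 := by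
    rw [← hau]
    calc _ = E.φ a * (u * u) * (E.φ a)⁻¹ := by group
      _ = 1 := by rw [huu]; group
  -- a subgroup containing `e` and `f c`
  let P0 : G → Prop := fun x => ∃ d ∈ D, ∃ k : ℤ, x = d * c ^ k ∧ E.φ d * w ^ k ∈ zpowers u
  set H := Subgroup.closure ({e, f * c} : Set G) with hH
  have hcomm : ∀ d ∈ D, Commute d c := fun d hd => E.commute_ker hD hleast hd hc
  have hP0 : ∀ x ∈ H, P0 x := by
    intro x hx
    induction hx using closure_induction with
    | mem x hx =>
      rcases hx with rfl | rfl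
      · exact ⟨x, heD, 0, by rw [zpow_zero, mul_one], by rw [zpow_zero, mul_one]; exact mem_zpowers u⟩
      · exact ⟨f, hfD, 1, by rw [zpow_one], by rw [zpow_one, hfw, hww]; exact one_mem _⟩
    | one => exact ⟨1, one_mem D, 0, by simp, by simp⟩
    | mul x y _ _ hx hy =>
      obtain ⟨d, hd, k, rfl, hk⟩ := hx
      obtain ⟨d', hd', k', rfl, hk'⟩ := hy
      refine ⟨d * d', mul_mem hd hd', k + k', ?_, ?_⟩
      · rw [zpow_add]
        calc d * c ^ k * (d' * c ^ k') = d * (c ^ k * d') * c ^ k' := by group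
          _ = d * (d' * c ^ k) * c ^ k' := by rw [((hcomm d' hd').zpow_right k).eq]
          _ = _ := by group
      · obtain ⟨i, hi⟩ := mem_zpowers_iff.1 hk'
        have hcd' : Commute (E.φ d') (w ^ k) := by
          have : E.φ d' = u ^ i * (w ^ k')⁻¹ := eq_mul_inv_of_mul_eq hi.symm
          rw [this]
          exact (((show Commute u w from huw).zpow_zpow i k)).mul_left (((Commute.refl w).zpow_zpow k' k).inv_left)
        rw [map_mul, zpow_add, show E.φ d * E.φ d' * (w ^ k * w ^ k') = E.φ d * w ^ k * (E.φ d' * w ^ k') from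
          hcd'.mul_mul_mul_comm _ _]
        exact mul_mem hk hk'
    | inv x _ hx =>
      obtain ⟨d, hd, k, rfl, hk⟩ := hx
      refine ⟨d⁻¹, inv_mem hd, -k, ?_, ?_⟩
      · rw [zpow_neg, mul_inv_rev]
        exact ((hcomm d hd).zpow_right k).inv_inv.eq.symm
      · obtain ⟨i, hi⟩ := mem_zpowers_iff.1 hk
        have hcd : Commute (E.φ d) (w ^ k) := by
          have : E.φ d = u ^ i * (w ^ k)⁻¹ := eq_mul_inv_of_mul_eq hi.symm
          rw [this]
          exact (((show Commute u w from huw).zpow_zpow i k)).mul_left (Commute.refl _).inv_left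
        rw [map_inv, zpow_neg, ← mul_inv_rev, ← hcd.eq]
        exact inv_mem hk
  have hmapH : H.map E.φ = Subgroup.closure {u, w} := by
    rw [hH, MonoidHom.map_closure, Set.image_pair, map_mul, MonoidHom.mem_ker.1 hc, mul_one, hfw]
  have h4 : (Subgroup.closure {u, w} : Subgroup P13) ≤ (centralizer {u} ⊓ centralizer {w}) := by
    rw [closure_le]
    rintro _ (rfl | rfl)
    · exact ⟨mem_centralizer_singleton_iff.2 rfl, mem_centralizer_singleton_iff.2 huw⟩
    · exact ⟨mem_centralizer_singleton_iff.2 huw.symm, mem_centralizer_singleton_iff.2 rfl⟩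
  have h2 : ∀ x ∈ H, x ^ 8 = 1 := by
    intro x hx
    have hxm : E.φ x ∈ Subgroup.closure {u, w} := hmapH ▸ mem_map_of_mem E.φ hx
    have hx2 : E.φ x ^ 2 = 1 := by
      generalize E.φ x = y0 at hxm ⊢
      induction hxm using closure_induction with
      | mem y hy => rcases hy with rfl | rfl <;> rw [pow_two] <;> assumption
      | one => exact one_pow 2
      | mul y z hy hz iy iz =>
        have hcyz : Commute y z := by
          have h5 := mem_inf.1 (h4 hy)
          have h6 : (Subgroup.closure {u, w} : Subgroup P13) ≤ centralizer {y} := by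
            rw [closure_le]
            rintro _ (rfl | rfl)
            · exact mem_centralizer_singleton_iff.2 (mem_centralizer_singleton_iff.1 h5.1).symm
            · exact mem_centralizer_singleton_iff.2 (mem_centralizer_singleton_iff.1 h5.2).symm
          exact (mem_centralizer_singleton_iff.1 (h6 hz)).symm
        rw [hcyz.mul_pow, iy, iz, one_mul]
      | inv y _ iy => rw [inv_pow, iy, inv_one]
    obtain ⟨d, hd, k, rfl, -⟩ := hP0 x hx
    have hcom := (hcomm d hd).zpow_right k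
    have hd2 : (d ^ 2) ^ 2 = 1 := by
      refine orderOf_dvd_iff_pow_eq_one.1 (E.pow_two_eq_one hDn hD hleast (pow_mem hd 2) ?_)
      rw [MonoidHom.mem_ker, map_pow]
      rwa [map_mul, map_zpow, MonoidHom.mem_ker.1 hc, one_zpow, mul_one] at hx2
    have hc4 : (c ^ 2) ^ 2 = 1 :=
      orderOf_dvd_iff_pow_eq_one.1 (E.pow_two_eq_one hDn hD hleast hc2 (pow_mem hc 2))
    rw [hcom.mul_pow, show d ^ 8 = ((d ^ 2) ^ 2) ^ 2 by rw [← pow_mul, ← pow_mul], hd2, one_pow, one_mul,
      ← zpow_natCast, ← zpow_mul, mul_comm, zpow_mul, zpow_natCast,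
      show c ^ 8 = ((c ^ 2) ^ 2) ^ 2 by rw [← pow_mul, ← pow_mul], hc4, one_pow, one_zpow]
  have hpH : IsPGroup 2 H := fun x => ⟨3, Subtype.ext (h2 x x.2)⟩
  have hN := E.key H (twoPrimes_pGroup hpH) (E.map_ne_bot (subset_closure (Or.inl rfl) : e ∈ H) fun he => by
    rw [← hu] at he
    exact hw1 (by rw [← hau, he, mul_one, mul_inv_cancel]))
  have haN : a ∈ nrm H := by
    rw [hN, mem_comap, hmapH, mem_normalizer_iff_map_conj_eq, MonoidHom.map_closure, Set.image_pair]
    show Subgroup.closure {E.φ a * u * (E.φ a)⁻¹, E.φ a * w * (E.φ a)⁻¹} = _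
    rw [hau, haw]
    refine le_antisymm ((closure_le _).2 ?_) ((closure_le _).2 ?_)
    · rintro _ (rfl | rfl)
      · exact subset_closure (Or.inr rfl)
      · exact mul_mem (subset_closure (Or.inl rfl)) (subset_closure (Or.inr rfl))
    · rintro _ (rfl | rfl)
      · have : u * w * w⁻¹ ∈ Subgroup.closure ({w, u * w} : Set P13) :=
          mul_mem (subset_closure (Or.inr rfl)) (inv_mem (subset_closure (Or.inl rfl)))
        rwa [mul_inv_cancel_right] at this
      · exact subset_closure (Or.inl rfl)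
  have hfH : f ∈ H := conj_mem_of_mem_nrm haN (subset_closure (Or.inl rfl))
  have hcH : c ∈ H := by
    have := mul_mem (inv_mem hfH) (subset_closure (Or.inr rfl) : f * c ∈ H)
    rwa [inv_mul_cancel_left] at this
  obtain ⟨d, hd, k, hdk, hk⟩ := hP0 c hcH
  have hck : c ^ (1 - k) = d := by rw [zpow_sub, zpow_one, mul_inv_eq_iff_eq_mul]; exact hdk
  rcases Int.even_or_odd' k with ⟨m, rfl | rfl⟩
  · refine hcD ?_
    have : c = c ^ (1 - 2 * m) * (c ^ 2) ^ m := by
      rw [← zpow_natCast, ← zpow_mul, ← zpow_add, Nat.cast_ofNat, sub_add_cancel, zpow_one]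
    rw [this, hck]
    exact mul_mem hd (zpow_mem hc2 m)
  · have hd1 : E.φ d = 1 := by rw [← hck, map_zpow, MonoidHom.mem_ker.1 hc, one_zpow]
    rw [hd1, one_mul, zpow_add, zpow_one, zpow_mul,
      show w ^ (2 : ℤ) = 1 by rw [show (2 : ℤ) = ((2 : ℕ) : ℤ) from rfl, zpow_natCast, pow_two, hww],
      one_zpow, one_mul] at hk
    have hu1 : u ≠ 1 := fun e1 => hw1 (by rw [← hau, e1, mul_one, mul_inv_cancel])
    exact (mem_zpowers_of_sq (orderOf_eq_prime (by rw [pow_two, huu]) hu1) hk).elim hw1 hwu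

theorem mem_of_dvd {p : ℕ} (hp : p.Prime) (hd : p ∣ 1092) :
    ∀ (k : ℕ) {c : G}, c ∈ E.φ.ker → c ^ p ^ k = 1 → c ∈ D := by
  intro k
  induction k with
  | zero =>
    intro c _ h
    rw [pow_zero, pow_one] at h
    exact h ▸ one_mem D
  | succ k ih =>
    intro c hc h
    have hcD : c ^ p ∈ D := ih (pow_mem hc p) (by rw [← pow_mul, ← pow_succ']; exact h)
    rcases eq_or_ne p 2 with rfl | hp2
    · exact E.mem_of_even hDn hD hleast hc hcD
    refine E.mem_of_odd hDn hD hleast hp hp2 hd hc (orderOf_eq_one_iff.1 (Nat.eq_one_of_dvd_coprimes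
      (((Nat.coprime_primes hp Nat.prime_two).2 hp2).pow_left k)
      (orderOf_dvd_of_pow_eq_one (by rw [← pow_mul, ← pow_succ']; exact h))
      (E.pow_two_eq_one hDn hD hleast hcD (pow_mem hc p))))

theorem coprime_of_not_dvd {r : ℕ} (hr : r.Prime) (hd : ¬ r ∣ 1092) : r.Coprime 2184 := by
  refine hr.coprime_iff_not_dvd.2 fun h => hd ?_
  rw [show (2184 : ℕ) = 2 * 1092 from rfl] at h
  exact ((Nat.Prime.dvd_mul hr).1 h).elim (fun h2 => h2.trans (by norm_num)) id

theorem exists_decomposition : ∃ S : Subgroup G, S.Normal ∧ D ⊓ S = ⊥ ∧ D ⊔ S = ⊤ ∧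
    IsMulCommutative S ∧ (Nat.card D).Coprime (Nat.card S) := by
  haveI := hDn
  set A : Set G := {c | c ∈ E.φ.ker ∧ ∃ p k, p.Prime ∧ ¬ p ∣ 1092 ∧ orderOf c = p ^ k} with hA
  have hcommA : ∀ a ∈ A, ∀ b ∈ A, a * b = b * a := by
    rintro a ⟨ha, p, i, hp, hpd, hai⟩ b ⟨hb, q, j, hq, -, hbj⟩
    by_cases hpq : p = q
    · subst hpq
      haveI := Fact.mk hp
      have hP : IsPGroup p (zpowers a ⊔ zpowers b : Subgroup G) :=
        IsPGroup.to_sup_of_normal_right' (IsPGroup.of_card (n := i) (by rw [Nat.card_zpowers, hai]))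
          (IsPGroup.of_card (n := j) (by rw [Nat.card_zpowers, hbj]))
          (zpowers_le.2 (mem_nrm_zpowers (E.conj_mem hDn hD hleast hb hq hbj ha)))
      have hle : zpowers a ⊔ zpowers b ≤ E.φ.ker := sup_le (zpowers_le.2 ha) (zpowers_le.2 hb)
      refine sylow_commute (fun e => hpd (by rw [e]; norm_num)) hP (fun x hx g hg => ?_)
        (mem_sup_left (mem_zpowers a)) (mem_sup_right (mem_zpowers b))
      obtain ⟨k, hk⟩ := hP.exists_orderOf_eq_pow ⟨x, hx⟩
      exact E.conj_mem hDn hD hleast (hle hx) hp (k := k) (by rw [← hk, Subgroup.orderOf_mk]) (hle hg)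
    · have hcop : (Nat.card (zpowers a)).Coprime (Nat.card (zpowers b)) := by
        rw [Nat.card_zpowers, Nat.card_zpowers, hai, hbj]
        exact ((Nat.coprime_primes hp hq).2 hpq).pow _ _
      refine commutatorElement_eq_one_iff_mul_comm.1 (Subgroup.mem_bot.1 ((Subgroup.inf_eq_bot_of_coprime hcop).le
        (mem_inf.2 ⟨?_, ?_⟩)))
      · rw [commutatorElement_def, mul_assoc a, mul_assoc a]
        refine mul_mem (mem_zpowers a) ?_
        have := inv_mem (E.conj_mem hDn hD hleast ha hp hai hb)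
        simpa [mul_assoc] using this
      · rw [commutatorElement_def]
        exact mul_mem (E.conj_mem hDn hD hleast hb hq hbj ha) (inv_mem (mem_zpowers b))
  set S := Subgroup.closure A with hS
  have hSc : IsMulCommutative S := isMulCommutative_closure hcommA
  have hSn : S.Normal := by
    refine ⟨fun x hx g => ?_⟩
    have h1 : MulAut.conj g x ∈ S.map (MulAut.conj g).toMonoidHom := mem_map_of_mem _ hx
    rw [hS, MonoidHom.map_closure] at h1
    refine closure_mono ?_ h1
    rintro _ ⟨c, ⟨hc, p, k, hp, hpd, hck⟩, rfl⟩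
    exact ⟨(inferInstance : E.φ.ker.Normal).conj_mem c hc g, p, k, hp, hpd,
      hck ▸ orderOf_injective (MulAut.conj g).toMonoidHom (MulAut.conj g).injective c⟩
  have hord : ∀ x ∈ S, (orderOf x).Coprime 2184 := by
    intro x hx
    induction hx using closure_induction with
    | mem x hx =>
      obtain ⟨-, p, k, hp, hpd, hk⟩ := hx
      rw [hk]
      exact (E.coprime_of_not_dvd hDn hD hleast hp hpd).pow_left k
    | one => rw [orderOf_one]; exact Nat.coprime_one_left _
    | mul x y hx hy ix iy =>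
      have hc : Commute x y := congrArg Subtype.val (hSc.is_comm.comm ⟨x, hx⟩ ⟨y, hy⟩)
      exact Nat.Coprime.coprime_dvd_left hc.orderOf_mul_dvd_mul_orderOf (ix.mul_left iy)
    | inv x _ ix => rwa [orderOf_inv]
  have hcop : (Nat.card D).Coprime (Nat.card S) := by
    refine Nat.coprime_of_dvd fun r hr hrD hrS => ?_
    haveI := Fact.mk hr
    obtain ⟨y, hy⟩ := exists_prime_orderOf_dvd_card' (G := S) r hrS
    have := hord y y.2
    rw [Subgroup.orderOf_coe, hy, hr.coprime_iff_not_dvd] at this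
    exact this (hrD.trans (E.card_dvd hDn hD hleast))
  refine ⟨S, hSn, Subgroup.inf_eq_bot_of_coprime hcop, ?_, hSc, hcop⟩
  have hker : ∀ n : ℕ, ∀ x ∈ E.φ.ker, orderOf x = n → x ∈ D ⊔ S := by
    intro n
    induction n using Nat.strong_induction_on with
    | _ n ih =>
      intro x hx hxn
      by_cases hn1 : n = 1
      · rw [orderOf_eq_one_iff.1 (hxn.trans hn1)]
        exact one_mem _
      obtain ⟨r, hr, hrn⟩ := Nat.exists_prime_and_dvd hn1
      obtain ⟨a, b, hab, -, ha, hb, ⟨k, hk⟩, hrb⟩ := ThreeSizes.exists_parts hr x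
      have hle : zpowers x ≤ E.φ.ker := zpowers_le.2 hx
      rw [hab]
      refine mul_mem ?_ ?_
      · by_cases hd : r ∣ 1092
        · exact mem_sup_left (E.mem_of_dvd hDn hD hleast hr hd k (hle ha) (by rw [← hk, pow_orderOf_eq_one]))
        · exact mem_sup_right (subset_closure ⟨hle ha, r, k, hr, hd, hk⟩)
      · refine ih (orderOf b) ?_ b (hle hb) rfl
        have hdvd : orderOf b ∣ n := hxn ▸ orderOf_dvd_of_mem_zpowers hb
        refine lt_of_le_of_ne (Nat.le_of_dvd (hxn ▸ orderOf_pos x) hdvd) fun e => hrb (e ▸ hrn)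
  rw [eq_top_iff]
  intro g _
  obtain ⟨d, hd, hdg⟩ := (hD ▸ mem_top (E.φ g) : E.φ g ∈ D.map E.φ)
  rw [← mul_inv_cancel_left d g]
  refine mul_mem (mem_sup_left hd) (hker _ _ ?_ rfl)
  rw [MonoidHom.mem_ker, map_mul, map_inv, hdg, inv_mul_cancel]

end Ext

end Cfsg.Agent.MaxNormalizers
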