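import Cfsg.Agent.Lib.MaxNormalizers.Local
import Cfsg.Agent.Lib.Frobenius.Kernel
import Cfsg.Agent.S4593

/-!
# The socle

* `Emb`: a nonabelian simple group embedded as a normal subgroup with trivial centralizer
* `exists_emb`
* consequences in the simple group: `Emb.nrm_nrm`, `Emb.four`, `Emb.inverted_sq`, `Emb.bijective`
-/

set_option autoImplicit false
set_option linter.unusedSectionVars false
set_option linter.style.haveILetI false

open Subgroup
open scoped Pointwise

namespace Cfsg.Agent.MaxNormalizers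

variable {G : Type*} [Group G] [Finite G]

local notation "nrm" H:max => Subgroup.normalizer (SetLike.coe H)
local notation "cent" x:max => Subgroup.centralizer ({x} : Set _)

/-- a nonabelian simple normal subgroup with trivial centralizer -/
structure Emb {S : Type*} [Group S] (ι : S →* G) : Prop where
  inj : Function.Injective ι
  normal : ι.range.Normal
  cent_bot : Subgroup.centralizer (ι.range : Set G) = ⊥
  simple : IsSimpleGroup S
  notsolv : ¬ Group.IsSolvable S

/-- no normal complement of an abelian self-normalizing Sylow subgroup in a simple group -/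
theorem abelian_sylow_selfnorm {S : Type*} [Group S] [Finite S] [IsSimpleGroup S] (hns : ¬ Group.IsSolvable S)
    {p : ℕ} [Fact p.Prime] (P : Sylow p S) (hd : p ∣ Nat.card S)
    (hc : ∀ a ∈ (P : Subgroup S), ∀ b ∈ (P : Subgroup S), a * b = b * a)
    (hN : Subgroup.normalizer ((P : Subgroup S) : Set S) ≤ P) : False := by
  have hP : Subgroup.normalizer ((P : Subgroup S) : Set S) ≤ Subgroup.centralizer ((P : Subgroup S) : Set S) :=
    fun n hn => mem_centralizer_iff.2 fun x hx => hc x hx n (hN hn)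
  have h := MonoidHom.ker_transferSylow_isComplement' P hP
  set K := (MonoidHom.transferSylow P hP).ker
  rcases (inferInstance : K.Normal).eq_bot_or_eq_top with e | e
  · rw [e, Subgroup.isComplement'_bot_left] at h
    refine hns ?_
    haveI := P.2.isNilpotent
    haveI : Group.IsSolvable (P : Subgroup S) := inferInstance
    exact Group.isSolvable_of_surjective (f := (P : Subgroup S).subtype)
      (fun x => ⟨⟨x, h ▸ mem_top x⟩, rfl⟩)
  · rw [e, Subgroup.isComplement'_top_left] at h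
    exact P.ne_bot_of_dvd_card hd h

/-- TI Sylow subgroups are not self-normalizing in a simple group -/
theorem ti_sylow_selfnorm {S : Type*} [Group S] [Finite S] [IsSimpleGroup S] (hns : ¬ Group.IsSolvable S)
    {p : ℕ} [Fact p.Prime] (P : Sylow p S) (hd : p ∣ Nat.card S)
    (hti : ∀ Q : Sylow p S, (P : Subgroup S) ≠ Q → (P : Subgroup S) ⊓ Q = ⊥)
    (hN : Subgroup.normalizer ((P : Subgroup S) : Set S) ≤ P) : False := by
  have htop : (P : Subgroup S) ≠ ⊤ := fun e => by
    refine hns ?_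
    haveI := P.2.isNilpotent
    haveI : Group.IsSolvable (P : Subgroup S) := inferInstance
    exact Group.isSolvable_of_surjective (f := (P : Subgroup S).subtype)
      (fun x => ⟨⟨x, e ▸ mem_top x⟩, rfl⟩)
  have hF : Cfsg.IsFrobeniusComplement (P : Subgroup S) := by
    refine ⟨P.ne_bot_of_dvd_card hd, htop, fun g hg => hti (g • P) fun e => hg (hN ?_)⟩
    rw [Subgroup.mem_normalizer_iff_map_conj_eq]
    exact (e.trans Sylow.coe_subgroup_smul).symm
  obtain ⟨N, -, hNn, hc⟩ := Frobenius.exists_kernel hF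
  rcases hNn.eq_bot_or_eq_top with e | e
  · exact htop (Subgroup.isComplement'_bot_left.1 (e ▸ hc))
  · exact hF.1 (Subgroup.isComplement'_top_left.1 (e ▸ hc))

namespace Hyp

variable (h : Hyp G)
include h

theorem subnormal_notsolv {X : Subgroup G} (hX : X.IsSubnormal) (hb : X ≠ ⊥) : ¬ Group.IsSolvable X := by
  intro hs
  haveI := hs
  have e : CentreFreeThree.rad X = ⊤ := top_le_iff.1 (CentreFreeThree.le_rad inferInstance inferInstance)
  have hr : CentreFreeThree.rad G = ⊥ := h.rf _ inferInstance inferInstance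
  have := subnormal_rad_le hX
  rw [e, hr, ← MonoidHom.range_eq_map, range_subtype] at this
  exact hb (eq_bot_iff.2 this)

/-- two commuting subnormal subgroups are not both nontrivial -/
theorem centralizer_subnormal {X C : Subgroup G} (hX : X.IsSubnormal) (hXb : X ≠ ⊥) (hC : C.IsSubnormal)
    (hc : C ≤ Subgroup.centralizer (X : Set G)) : C = ⊥ := by
  by_contra hCb
  haveI := Fact.mk Nat.prime_two
  have he : 2 ∣ Nat.card C := by
    by_contra hne
    exact h.subnormal_notsolv hC hCb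
      (OddOrderTheorem.solvable (Nat.not_even_iff_odd.1 fun e => hne (even_iff_two_dvd.1 e)))
  obtain ⟨t, ht⟩ := exists_prime_orderOf_dvd_card' (G := C) 2 he
  have hle : X ≤ cent (t : G) := fun x hx =>
    mem_centralizer_singleton_iff.2 (mem_centralizer_iff.1 (hc t.2) x hx)
  haveI := h.cent_solvable (u := (t : G)) (by rw [Subgroup.orderOf_coe, ht])
  exact h.subnormal_notsolv hX hXb (Group.isSolvable_of_isSolvable_injective (Subgroup.inclusion_injective hle))

theorem exists_emb (hns : ¬ Group.IsSolvable G) : ∃ S : Subgroup G, Emb S.subtype := by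
  haveI : Nontrivial G := by
    by_contra hh
    haveI := not_nontrivial_iff_subsingleton.1 hh
    exact hns inferInstance
  obtain ⟨N, ⟨hNn, hNb⟩, hNmin⟩ := (wellFounded_lt (α := Subgroup G)).has_min
    {N : Subgroup G | N.Normal ∧ N ≠ ⊥} ⟨⊤, inferInstance, top_ne_bot⟩
  haveI := hNn
  have hmin : ∀ K : Subgroup G, K.Normal → K ≤ N → K = ⊥ ∨ K = N := fun K hK hle =>
    or_iff_not_imp_left.2 fun hb => (eq_or_lt_of_le hle).resolve_right fun hlt => hNmin K ⟨hK, hb⟩ hlt
  haveI : Nontrivial N := (Subgroup.nontrivial_iff_ne_bot N).2 hNb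
  have hsub : ∀ K : Subgroup N, K.Normal → (K.map N.subtype).IsSubnormal := fun K hK => by
    refine Subgroup.IsSubnormal.step _ N (map_subtype_le K) hNn.isSubnormal ?_
    rw [Subgroup.subgroupOf, Subgroup.comap_map_eq_self_of_injective N.subtype_injective]
    exact hK
  obtain ⟨M, ⟨hMn, hMb⟩, hMmin⟩ := (wellFounded_lt (α := Subgroup N)).has_min
    {M : Subgroup N | M.Normal ∧ M ≠ ⊥} ⟨⊤, inferInstance, top_ne_bot⟩
  haveI := hMn
  have huniq : ∀ K : Subgroup N, K.Normal → K ≠ ⊥ → M ≤ K := by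
    intro K hK hKb
    haveI := hK
    rcases eq_or_ne (K ⊓ M) ⊥ with e | e
    · exfalso
      refine hKb ((Subgroup.map_eq_bot_iff_of_injective _ N.subtype_injective).1
        (h.centralizer_subnormal (hsub M hMn)
          (fun e' => hMb ((Subgroup.map_eq_bot_iff_of_injective _ N.subtype_injective).1 e')) (hsub K hK) ?_))
      rintro _ ⟨k, hk, rfl⟩
      rw [mem_centralizer_iff]
      rintro _ ⟨m, hm, rfl⟩
      exact congrArg Subtype.val (Subgroup.commute_of_normal_of_disjoint _ _ hMn hK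
        (disjoint_iff.2 (by rw [inf_comm]; exact e)) m k hm hk)
    · exact inf_eq_right.1 ((eq_or_lt_of_le inf_le_right).resolve_right fun hlt =>
        hMmin (K ⊓ M) ⟨inferInstance, e⟩ hlt)
  have hMeq : M = ⊤ := by
    have hGn : (M.map N.subtype).Normal := by
      refine ⟨fun x hx g => ?_⟩
      obtain ⟨m, hm, rfl⟩ := hx
      let φ : N ≃* N := MulAut.conjNormal g⁻¹
      have hle := huniq (M.map φ.toMonoidHom) (Subgroup.Normal.map inferInstance _ φ.surjective)
        (fun e => hMb ((Subgroup.map_eq_bot_iff_of_injective _ φ.injective).1 e))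
      obtain ⟨m', hm', e⟩ := hle hm
      refine ⟨m', hm', ?_⟩
      have e' : g⁻¹ * (m' : G) * g⁻¹⁻¹ = (m : G) := by rw [← e]; exact (MulAut.conjNormal_apply g⁻¹ m').symm
      show (m' : G) = g * (m : G) * g⁻¹
      rw [← e']
      group
    rcases hmin _ hGn (map_subtype_le M) with e | e
    · exact absurd ((Subgroup.map_eq_bot_iff_of_injective _ N.subtype_injective).1 e) hMb
    · exact Subgroup.map_injective N.subtype_injective (e.trans (by rw [← MonoidHom.range_eq_map, range_subtype]))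
  refine ⟨N, N.subtype_injective, by rw [range_subtype]; exact hNn, ?_,
    ⟨fun K hK => or_iff_not_imp_left.2 fun hb => top_le_iff.1 (hMeq ▸ huniq K hK hb)⟩,
    h.subnormal_notsolv hNn.isSubnormal hNb⟩
  rw [range_subtype]
  exact h.centralizer_subnormal hNn.isSubnormal hNb
    (inferInstance : (Subgroup.centralizer (N : Set G)).Normal).isSubnormal le_rfl

end Hyp

namespace Emb

variable {S : Type*} [Group S] [Finite S] {ι : S →* G} (he : Emb ι) (h : Hyp G)
include he h

theorem map_ne_bot {H : Subgroup S} (hb : H ≠ ⊥) : H.map ι ≠ ⊥ :=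
  fun e => hb ((Subgroup.map_eq_bot_iff_of_injective _ he.inj).1 e)

theorem card_map (H : Subgroup S) : Nat.card (H.map ι) = Nat.card H :=
  Subgroup.card_map_of_injective he.inj

theorem orderOf_map (x : S) : orderOf (ι x) = orderOf x := orderOf_injective ι he.inj x

theorem nrm_map_ne_top {X : Subgroup S} (hb : X ≠ ⊥) (ht : X ≠ ⊤) : nrm (X.map ι) ≠ ⊤ := by
  intro e
  haveI : IsSimpleGroup S := he.simple
  have hn : (X.map ι).Normal := normalizer_eq_top_iff.1 e
  have hn' := hn.comap ι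
  rw [Subgroup.comap_map_eq_self_of_injective he.inj] at hn'
  exact hn'.eq_bot_or_eq_top.elim hb ht

theorem ne_top_of_solvable {X : Subgroup S} (hX : Group.IsSolvable X) : X ≠ ⊤ := by
  intro e
  subst e
  exact he.notsolv (Group.isSolvable_of_surjective
    (show Function.Surjective (Subgroup.topEquiv (G := S)).toMonoidHom from Subgroup.topEquiv.surjective))

theorem mem_nrm_map {H : Subgroup S} {n : S} : ι n ∈ nrm (H.map ι) ↔ n ∈ nrm H := by
  rw [Subgroup.mem_normalizer_iff, Subgroup.mem_normalizer_iff]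
  constructor
  · intro hn x
    have := hn (ι x)
    rwa [Subgroup.mem_map_iff_mem he.inj, ← map_inv, ← map_mul, ← map_mul, Subgroup.mem_map_iff_mem he.inj] at this
  · intro hn y
    constructor
    · rintro ⟨x, hx, rfl⟩
      exact ⟨n * x * n⁻¹, (hn x).1 hx, by simp⟩
    · rintro ⟨x, hx, e⟩
      refine ⟨n⁻¹ * x * n, (hn _).2 (by simpa [mul_assoc] using hx), ?_⟩
      rw [map_mul, map_mul, map_inv, e]
      group

/-- the normalizer in the simple group of a small subgroup is self-normalizing -/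
theorem nrm_nrm {H : Subgroup S} (hb : H ≠ ⊥) (hp : TwoPrimes (Nat.card H)) : nrm (nrm H) = nrm H := by
  set X := nrm H with hX
  have hle : nrm (H.map ι) ≤ nrm (X.map ι) := by
    intro g hg
    haveI := he.normal
    rw [Subgroup.mem_normalizer_iff_map_conj_eq]
    refine eq_of_le_of_card_ge ?_ (le_of_eq (Subgroup.card_map_of_injective (MulAut.conj g).injective).symm)
    rintro _ ⟨_, ⟨n, hn, rfl⟩, rfl⟩
    obtain ⟨m, hm⟩ := (inferInstance : ι.range.Normal).conj_mem (ι n) ⟨n, rfl⟩ g
    refine ⟨m, ?_, hm⟩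
    show m ∈ X
    rw [hX, ← he.mem_nrm_map h, hm]
    exact mul_mem (mul_mem hg ((he.mem_nrm_map h).2 hn)) (inv_mem hg)
  have hXt : X ≠ ⊤ := by
    intro e
    have hn := normalizer_eq_top_iff.1 e
    haveI : IsSimpleGroup S := he.simple
    rcases hn.eq_bot_or_eq_top with e' | e'
    · exact hb e'
    · exact he.ne_top_of_solvable h (solvable_of_twoPrimes hp) e'
  have hXb : X ≠ ⊥ := fun e => hb (eq_bot_iff.2 (le_normalizer.trans e.le))
  have heq : nrm (H.map ι) = nrm (X.map ι) :=
    h.eq_of_le (he.map_ne_bot h hb) (by rw [he.card_map h]; exact hp) hle (he.nrm_map_ne_top h hXb hXt)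
  refine le_antisymm (fun n hn => ?_) le_normalizer
  rw [hX, ← he.mem_nrm_map h, heq, he.mem_nrm_map h]
  exact hn

theorem sup_eq_top {H : Subgroup S} (hb : H ≠ ⊥) (hp : TwoPrimes (Nat.card H)) :
    nrm (H.map ι) ⊔ ι.range = ⊤ := by
  refine (((h.mx _ (he.map_ne_bot h hb) (by rw [he.card_map h]; exact hp)).le_iff.1 le_sup_left)).resolve_right fun e => ?_
  have hn : H.Normal := normalizer_eq_top_iff.1 (top_le_iff.1 fun n _ =>
    (he.mem_nrm_map h).1 (e ▸ mem_sup_right ⟨n, rfl⟩))
  haveI : IsSimpleGroup S := he.simple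
  exact hn.eq_bot_or_eq_top.elim hb (he.ne_top_of_solvable h (solvable_of_twoPrimes hp))

/-- a normal subgroup of a Sylow subgroup that is the centralizer of an involution has no larger normalizer -/
theorem four {z : S} (hz : orderOf z = 2) (P : Sylow 2 S) (hP : cent z = (P : Subgroup S)) {E : Subgroup S}
    (hEP : E ≤ (P : Subgroup S)) (hb : E ≠ ⊥) (hn : (P : Subgroup S) ≤ nrm E) : nrm E ≤ (P : Subgroup S) := by
  haveI := Fact.mk Nat.prime_two
  haveI := he.normal
  have hzc : nrm (zpowers z) = cent z := nrm_zpowers_involution hz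
  have hP1 : TwoPrimes (Nat.card (zpowers z)) :=
    twoPrimes_pow Nat.prime_two (k := 1) (by rw [Nat.card_zpowers, hz, pow_one])
  have hzb : zpowers z ≠ ⊥ := fun e => by
    rw [zpowers_eq_bot.1 e, orderOf_one] at hz
    omega
  have hPN : nrm ((P : Subgroup S)) = (P : Subgroup S) := by
    have := he.nrm_nrm h hzb hP1
    rwa [hzc, hP] at this
  have hEp : IsPGroup 2 E := P.2.to_le hEP
  have hz' : orderOf (ι z) = 2 := (he.orderOf_map h z).trans hz
  have hmemP : ∀ x : S, ι x ∈ cent (ι z) ↔ x ∈ (P : Subgroup S) := fun x => by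
    rw [← hP, mem_centralizer_singleton_iff, mem_centralizer_singleton_iff, ← map_mul, ← map_mul, he.inj.eq_iff]
  have hle : cent (ι z) ≤ nrm (E.map ι) := by
    intro g hg
    have hgP : ∀ x ∈ (P : Subgroup S), ∃ y ∈ (P : Subgroup S), ι y = g * ι x * g⁻¹ := by
      intro x hx
      obtain ⟨y, hy⟩ := (inferInstance : ι.range.Normal).conj_mem (ι x) ⟨x, rfl⟩ g
      exact ⟨y, (hmemP y).1 (hy ▸ mul_mem (mul_mem hg ((hmemP x).2 hx)) (inv_mem hg)), hy⟩
    obtain ⟨m, hm, _, ⟨n, rfl⟩, hgmn⟩ := Subgroup.mem_sup_of_normal_right.1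
      ((he.sup_eq_top h hb (twoPrimes_pGroup hEp)).symm ▸ mem_top g⁻¹)
    -- g⁻¹ = m * ι n
    have hgi : g = ι n⁻¹ * m⁻¹ := by rw [← inv_inv g, ← hgmn, mul_inv_rev, map_inv]
    have hmi := inv_mem hm
    have hconj : ∀ x ∈ E, ∃ e ∈ E, g * ι x * g⁻¹ = ι (n⁻¹ * e * n) := by
      intro x hx
      obtain ⟨e, he1, he2⟩ := conj_mem_of_mem_nrm hmi (mem_map_of_mem ι hx)
      refine ⟨e, he1, ?_⟩
      rw [map_mul, map_mul, he2, hgi, map_inv]
      group
    have hsur : ∀ e ∈ E, ∃ x ∈ E, g * ι x * g⁻¹ = ι (n⁻¹ * e * n) := by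
      intro e he1
      obtain ⟨x, hx1, hx2⟩ := conj_mem_of_mem_nrm hm (mem_map_of_mem ι he1)
      refine ⟨x, hx1, ?_⟩
      rw [map_mul, map_mul, hx2, hgi, map_inv]
      group
    set E' := E.map (MulAut.conj n⁻¹).toMonoidHom with hE'
    have hE'P : E' ≤ (P : Subgroup S) := by
      rintro _ ⟨e, he1, rfl⟩
      obtain ⟨x, hx, hxe⟩ := hsur e he1
      obtain ⟨y, hy, hye⟩ := hgP x (hEP hx)
      rw [hxe] at hye
      rw [show (MulAut.conj n⁻¹).toMonoidHom e = n⁻¹ * e * n by simp, ← he.inj hye]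
      exact hy
    have hE'n : (P : Subgroup S) ≤ nrm E' := by
      intro p hp
      rw [Subgroup.mem_normalizer_iff_map_conj_eq]
      refine eq_of_le_of_card_ge ?_ (le_of_eq (Subgroup.card_map_of_injective (MulAut.conj p).injective).symm)
      rintro _ ⟨_, ⟨e, he1, rfl⟩, rfl⟩
      obtain ⟨x, hx, hxe⟩ := hsur e he1
      obtain ⟨q, hq, hqe⟩ : ∃ q ∈ (P : Subgroup S), ι p = g * ι q * g⁻¹ := by
        obtain ⟨q, hq⟩ := (inferInstance : ι.range.Normal).conj_mem (ι p) ⟨p, rfl⟩ g⁻¹
        refine ⟨q, (hmemP q).1 (hq ▸ mul_mem (mul_mem (inv_mem hg) ((hmemP p).2 hp)) (by simpa using hg)), ?_⟩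
        rw [hq]; group
      obtain ⟨e2, he2, he2'⟩ := hconj _ (conj_mem_of_mem_nrm (hn hq) hx)
      refine ⟨e2, he2, ?_⟩
      show n⁻¹ * e2 * n⁻¹⁻¹ = p * (n⁻¹ * e * n⁻¹⁻¹) * p⁻¹
      rw [inv_inv]
      apply he.inj
      rw [← he2', map_mul ι (p * (n⁻¹ * e * n)), map_mul ι p, ← hxe, map_inv, hqe, map_mul ι (q * x), map_mul ι q,
        map_inv]
      group
    -- conjugate in the normalizer of the Sylow subgroup
    have h1 : ((n • P : Sylow 2 S) : Subgroup S) ≤ nrm E := by
      rw [Sylow.coe_subgroup_smul]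
      rintro _ ⟨p, hp, rfl⟩
      have hp' := Subgroup.mem_normalizer_iff_map_conj_eq.1 (hE'n hp)
      rw [Subgroup.mem_normalizer_iff_map_conj_eq]
      have hEE : E = E'.map (MulAut.conj n).toMonoidHom := by
        rw [hE', Subgroup.map_map]
        conv_lhs => rw [← Subgroup.map_id E]
        congr 1
        ext w
        simp [mul_assoc]
      rw [hEE, Subgroup.map_map]
      conv_rhs => rw [← hp', Subgroup.map_map]
      congr 1
      ext w
      simp [mul_assoc]
    obtain ⟨d, hd⟩ := MulAction.exists_smul_eq (nrm E : Subgroup S) ((n • P).subtype h1) (P.subtype hn)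
    have hd' : ((d : S) * n) • P = P := by
      simp_rw [Sylow.smul_subtype, Subgroup.smul_def, smul_smul] at hd
      exact Sylow.subtype_injective hd
    have hdn : (d : S) * n ∈ (P : Subgroup S) := hPN ▸ Sylow.smul_eq_iff_mem_normalizer.1 hd'
    -- E' = E
    have hEeq : E' = E := by
      have hk : (d : S) * n ∈ nrm E := hn hdn
      have hnN : n ∈ nrm E := by
        have := mul_mem (inv_mem d.2) hk
        rwa [inv_mul_cancel_left] at this
      rw [hE']
      exact Subgroup.mem_normalizer_iff_map_conj_eq.1 (inv_mem hnN)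
    rw [Subgroup.mem_normalizer_iff_map_conj_eq]
    refine eq_of_le_of_card_ge ?_ (le_of_eq (Subgroup.card_map_of_injective (MulAut.conj g).injective).symm)
    rintro _ ⟨_, ⟨x, hx, rfl⟩, rfl⟩
    obtain ⟨e, he1, he2⟩ := hconj x hx
    exact ⟨n⁻¹ * e * n, hEeq ▸ ⟨e, he1, by simp⟩, he2.symm⟩
  have hEt : E ≠ ⊤ := he.ne_top_of_solvable h (solvable_of_twoPrimes (twoPrimes_pGroup hEp))
  have heq : cent (ι z) = nrm (E.map ι) :=
    (((h.nrm_of_involution hz').le_iff.1 hle)).resolve_left (he.nrm_map_ne_top h hb hEt) |>.symm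
  intro n hn'
  rw [← hmemP, heq, he.mem_nrm_map h]
  exact hn'

/-- elements inverted by an involution that inverts an element of prime order in their centralizer -/
theorem inverted_sq {y v c : S} {p : ℕ} (hp : p.Prime) (hp2 : p ≠ 2) (hy : orderOf y = p)
    (hv : orderOf v = 2) (hvy : v * y * v⁻¹ = y⁻¹) (hcy : Commute c y) (hvc : v * c * v⁻¹ = c⁻¹) :
    c * c ∈ zpowers y := by
  suffices hmain : ι c * ι c ∈ zpowers (ι y) by
    rw [← MonoidHom.map_zpowers, ← map_mul] at hmain
    exact (Subgroup.mem_map_iff_mem he.inj).1 hmain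
  have hy' : orderOf (ι y) = p := (he.orderOf_map h y).trans hy
  have hv' : orderOf (ι v) = 2 := (he.orderOf_map h v).trans hv
  have hvy' : ι v * ι y * (ι v)⁻¹ = (ι y)⁻¹ := by rw [← map_inv ι, ← map_inv ι, ← map_mul, ← map_mul, hvy]
  have hcy' : Commute (ι c) (ι y) := hcy.map ι
  have hvc' : ι v * ι c * (ι v)⁻¹ = (ι c)⁻¹ := by rw [← map_inv ι, ← map_inv ι, ← map_mul, ← map_mul, hvc]
  generalize ι y = y at hy' hvy' hcy' ⊢
  generalize ι v = v at hv' hvy' hvc' ⊢
  generalize ι c = c at hcy' hvc' ⊢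
  haveI := Fact.mk hp
  haveI := Fact.mk Nat.prime_two
  have hy1 : y ≠ 1 := fun e => by
    rw [e, orderOf_one] at hy'
    exact hp.ne_one hy'.symm
  have hvv : v * v = 1 := by rw [← pow_two, ← hv', pow_orderOf_eq_one]
  set Y := zpowers y with hY
  set H := Y ⊔ zpowers v with hH
  have hvN : v ∈ nrm Y := mem_nrm_zpowers (by rw [hvy']; exact inv_mem (mem_zpowers y))
  have hmem : ∀ z ∈ H, ∃ i : ℤ, z = y ^ i ∨ z = y ^ i * v := by
    intro z hz
    rw [hH, ← SetLike.mem_coe, Subgroup.coe_mul_of_right_le_normalizer_left _ _ (zpowers_le.2 hvN)] at hz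
    obtain ⟨a, ⟨i, rfl⟩, b, hb, rfl⟩ := hz
    rcases mem_zpowers_of_sq hv' hb with rfl | rfl
    · exact ⟨i, Or.inl (mul_one _)⟩
    · exact ⟨i, Or.inr rfl⟩
  have hconj : ∀ i : ℤ, v * y ^ i * v⁻¹ = (y ^ i)⁻¹ := fun i => by rw [← conj_zpow, hvy', inv_zpow]
  have hsq : ∀ i : ℤ, y ^ i * v * (y ^ i * v) = 1 := fun i => by
    calc y ^ i * v * (y ^ i * v) = y ^ i * (v * y ^ i * v⁻¹) * (v * v) := by group
      _ = 1 := by rw [hconj, hvv, mul_inv_cancel, mul_one]
  have hle : nrm H ≤ nrm Y := fun n hn => mem_nrm_zpowers (by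
    obtain ⟨i, e | e⟩ := hmem _ (conj_mem_of_mem_nrm hn (mem_sup_left (mem_zpowers y)))
    · exact ⟨i, e.symm⟩
    · exfalso
      have h2 : (n * y * n⁻¹) ^ 2 = 1 := by rw [e, pow_two, hsq]
      have := orderOf_dvd_of_pow_eq_one h2
      rw [orderOf_conj_eq, hy'] at this
      exact hp2 ((Nat.prime_dvd_prime_iff_eq hp Nat.prime_two).1 this))
  have hTP : TwoPrimes (Nat.card H) := by
    refine ⟨p, 2, hp, Nat.prime_two, fun r hr hd => ?_⟩
    haveI := Fact.mk hr
    obtain ⟨⟨w, hw⟩, hwo⟩ := exists_prime_orderOf_dvd_card' (G := H) r hd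
    rw [Subgroup.orderOf_mk] at hwo
    obtain ⟨i, rfl | rfl⟩ := hmem w hw
    · exact Or.inl ((Nat.prime_dvd_prime_iff_eq hr hp).1 (hwo ▸ hy' ▸ orderOf_dvd_of_mem_zpowers
        (zpow_mem (mem_zpowers y) i)))
    · exact Or.inr ((Nat.prime_dvd_prime_iff_eq hr Nat.prime_two).1 (hwo ▸ orderOf_dvd_of_pow_eq_one
        (by rw [pow_two, hsq])))
  have hb : H ≠ ⊥ := fun e => hy1 (mem_bot.1 (e ▸ mem_sup_left (mem_zpowers y)))
  have hN : nrm H = nrm Y := h.eq_of_le hb hTP hle
    (h.nrm_ne_top (h.zpowers_ne_bot hy1) (twoPrimes_pow hp (k := 1) (by rw [Nat.card_zpowers, hy', pow_one])))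
  have hcN : c ∈ nrm H := by
    rw [hN]
    refine mem_nrm_zpowers ?_
    rw [show c * y * c⁻¹ = y by rw [hcy'.eq, mul_inv_cancel_right]]
    exact mem_zpowers y
  have e2 : c * v * c⁻¹ = c * c * v := by
    calc c * v * c⁻¹ = c * (v * c⁻¹ * v⁻¹) * v := by group
      _ = c * c * v := by rw [← conj_inv, hvc', inv_inv]
  obtain ⟨i, e | e⟩ := hmem _ (conj_mem_of_mem_nrm hcN (mem_sup_right (mem_zpowers v)))
  · exfalso
    have hc : Commute (c * c) y := hcy'.mul_left hcy'
    have hv2 : v = (c * c)⁻¹ * y ^ i := by rw [← e, e2, inv_mul_cancel_left]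
    have : Commute v y := hv2 ▸ hc.inv_left.mul_left ((Commute.refl y).zpow_left i)
    have h1 : y * y = 1 := by
      rw [this.eq, mul_inv_cancel_right] at hvy'
      nth_rewrite 1 [hvy']
      exact inv_mul_cancel y
    have := orderOf_dvd_of_pow_eq_one ((pow_two y).trans h1)
    rw [hy'] at this
    exact hp2 ((Nat.prime_dvd_prime_iff_eq hp Nat.prime_two).1 this)
  · rw [e2] at e
    exact ⟨i, (mul_right_cancel e).symm⟩

/-- an abelian Sylow 2-subgroup leaves no room for outer 2-elements -/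
theorem bijective (habel : ∀ T : Sylow 2 G, IsMulCommutative (T : Subgroup G))
    (hc : Nat.card (MulAut S) = 2 * Nat.card S) : Function.Bijective ι := by
  classical
  haveI := Fact.mk Nat.prime_two
  haveI := he.normal
  haveI : IsSimpleGroup S := he.simple
  refine ⟨he.inj, fun g => ?_⟩
  by_contra hg
  let e : S ≃* ι.range := MonoidHom.ofInjective he.inj
  let ψ : G →* MulAut S :=
    { toFun := fun g => (e.trans (MulAut.conjNormal g)).trans e.symm
      map_one' := by
        ext x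
        simp
      map_mul' := fun a b => by
        ext x
        simp }
  have hψ : ∀ g x, ι (ψ g x) = g * ι x * g⁻¹ := fun g x => by
    show ι (e.symm (MulAut.conjNormal g (e x))) = _
    have h1 := congrArg Subtype.val (e.apply_symm_apply (MulAut.conjNormal g (e x)))
    exact h1.trans (MulAut.conjNormal_apply g (e x))
  have hψi : Function.Injective ψ := by
    refine (injective_iff_map_eq_one ψ).2 fun g hg => ?_
    have : g ∈ Subgroup.centralizer (ι.range : Set G) := by
      rw [mem_centralizer_iff]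
      rintro _ ⟨x, rfl⟩
      have := hψ g x
      rw [hg, MulAut.one_apply] at this
      exact (eq_mul_inv_iff_mul_eq.1 this)
    rwa [he.cent_bot, mem_bot] at this
  -- the index is two
  have hidx : ι.range.index ∣ 2 := by
    haveI : Finite (MulAut S) := Finite.of_injective (fun α : MulAut S => (α : S → S)) DFunLike.coe_injective
    have h1 := Subgroup.card_dvd_of_injective ψ hψi
    rw [hc, ← ι.range.card_mul_index, Nat.card_congr e.symm.toEquiv, mul_comm 2] at h1
    exact Nat.dvd_of_mul_dvd_mul_left Nat.card_pos h1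
  obtain ⟨T⟩ : Nonempty (Sylow 2 G) := inferInstance
  obtain ⟨t, htT, htr⟩ : ∃ t ∈ (T : Subgroup G), t ∉ ι.range := by
    by_contra! hle
    have hd : ¬ 2 ∣ ι.range.index := fun h2 =>
      T.not_dvd_index (h2.trans (Subgroup.index_dvd_of_le hle))
    refine hg ?_
    rcases (Nat.dvd_prime Nat.prime_two).1 hidx with e1 | e1
    · exact (Subgroup.index_eq_one.1 e1 ▸ mem_top g : g ∈ ι.range)
    · exact absurd (dvd_of_eq e1.symm) hd
  have hcomm := (habel T).is_comm.comm
  set P0 := (T : Subgroup G).comap ι with hP0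
  have hP0' : IsPGroup 2 P0 := T.2.comap_of_injective ι he.inj
  obtain ⟨P, hPle⟩ := hP0'.exists_le_sylow
  have hPeq : (P : Subgroup S) = P0 := by
    refine (eq_of_le_of_card_ge hPle ?_).symm
    obtain ⟨Q, hQ⟩ := (P.2.map ι).exists_le_sylow
    obtain ⟨a, ha⟩ := MulAction.exists_smul_eq G Q T
    have hinj : Function.Injective (MulAut.conj a).toMonoidHom := (MulAut.conj a).injective
    rw [← he.card_map h (P : Subgroup S), ← (Subgroup.card_map_of_injective hinj : Nat.card ↥(((P : Subgroup S).map ι).map (MulAut.conj a).toMonoidHom) =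
      Nat.card ↥((P : Subgroup S).map ι)),
      ← he.card_map h P0]
    refine Subgroup.card_le_of_le ?_
    rintro _ ⟨_, ⟨x, hx, rfl⟩, rfl⟩
    obtain ⟨x', hx'⟩ := (inferInstance : ι.range.Normal).conj_mem (ι x) ⟨x, rfl⟩ a
    refine ⟨x', ?_, hx'⟩
    show ι x' ∈ (T : Subgroup G)
    rw [hx', ← ha, Sylow.coe_subgroup_smul]
    exact ⟨ι x, hQ ⟨x, hx, rfl⟩, rfl⟩
  have hα : ∀ x ∈ (P : Subgroup S), ψ t x = x := by
    intro x hx
    rw [hPeq] at hx
    apply he.inj
    rw [hψ, mul_inv_eq_iff_eq_mul]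
    exact congrArg Subtype.val (hcomm ⟨t, htT⟩ ⟨ι x, hx⟩)
  have hPc : IsMulCommutative (P : Subgroup S) := ⟨⟨fun a b => Subtype.ext (he.inj (by
    have ha : (a : S) ∈ P0 := hPeq ▸ a.2
    have hb : (b : S) ∈ P0 := hPeq ▸ b.2
    rw [Subgroup.coe_mul, Subgroup.coe_mul, map_mul, map_mul]
    exact congrArg Subtype.val (hcomm ⟨ι a, ha⟩ ⟨ι b, hb⟩)))⟩⟩
  obtain ⟨k, hk⟩ := T.2.exists_orderOf_eq_pow ⟨t, htT⟩
  rw [Subgroup.orderOf_mk] at hk
  have hcore : Cfsg.pPrimeCore 2 S = ⊥ := by
    refine (Cores.pPrimeCore_normal 2 S).eq_bot_or_eq_top.resolve_right fun e2 => ?_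
    have hodd := Cores.coprime_card_pPrimeCore (G := S) 2
    rw [e2, Subgroup.card_top] at hodd
    exact he.notsolv (OddOrderTheorem.solvable (Nat.coprime_two_left.1 hodd.symm))
  have hZ : Subgroup.center S = ⊥ := by
    refine (inferInstance : (Subgroup.center S).Normal).eq_bot_or_eq_top.resolve_right fun e2 => he.notsolv ?_
    exact Group.isSolvable_of_comm fun a b => (mem_center_iff.1 (e2 ▸ mem_top b : b ∈ center S) a)
  obtain ⟨s, hs⟩ := S4593.result hZ hcore P hPc (ψ t)
    (by
      obtain ⟨j, -, hj⟩ := (Nat.dvd_prime_pow Nat.prime_two).1 ((orderOf_map_dvd ψ t).trans (dvd_of_eq hk))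
      exact ⟨j, hj⟩) hα
  refine htr ⟨s, ?_⟩
  have h0 : (ι s)⁻¹ * t ∈ Subgroup.centralizer (ι.range : Set G) := by
    rw [mem_centralizer_iff]
    rintro _ ⟨x, rfl⟩
    have h1 := hψ t x
    rw [hs, map_mul, map_mul, map_inv] at h1
    calc ι x * ((ι s)⁻¹ * t) = (ι s)⁻¹ * (ι s * ι x * (ι s)⁻¹) * t := by group
      _ = (ι s)⁻¹ * (t * ι x * t⁻¹) * t := by rw [h1]
      _ = (ι s)⁻¹ * t * ι x := by group
  rw [he.cent_bot, mem_bot, inv_mul_eq_one] at h0
  exact h0

end Emb

end Cfsg.Agent.MaxNormalizers
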