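import Cfsg.Agent.Lib.MaxNormalizers.Basic
import Cfsg.Agent.S0215
import Cfsg.Agent.Lib.OddOrderTheorem.Basic

/-!
# Dedekind 2-groups and the centralizer of a central involution

* `squares_eq`: quaternion pairs in a group with normal cyclic subgroups share their square
* `eq_bot_of_odd`, `exists_conj_ne`: no normal subgroup of odd order, no isolated involution
* `Hyp.sylow_comm`: if a Sylow 2-subgroup lies in the centralizer of an involution that also contains
  odd elements, it is abelian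
-/

set_option autoImplicit false
set_option linter.unusedSectionVars false
set_option linter.style.haveILetI false

open Subgroup
open scoped commutatorElement

namespace Cfsg.Agent.MaxNormalizers

variable {G : Type*} [Group G] [Finite G]

local notation "nrm" H:max => Subgroup.normalizer (SetLike.coe H)
local notation "cent" x:max => Subgroup.centralizer ({x} : Set _)

/-- the data of a quaternion pair in `R` -/
def Pair (R : Subgroup G) (x y : G) : Prop :=
  x ∈ R ∧ y ∈ R ∧ orderOf x = 4 ∧ y * y = x * x ∧ y * x * y⁻¹ = x⁻¹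

theorem exists_pair {R : Subgroup G} (hR : IsPGroup 2 R)
    (hd : ∀ g ∈ R, ∀ x ∈ R, g * x * g⁻¹ ∈ zpowers x) {a b : G} (ha : a ∈ R) (hb : b ∈ R)
    (hab : ¬ Commute a b) : ∃ x y, Pair R x y := by
  haveI := Fact.mk Nat.prime_two
  have hn : ∀ H : Subgroup R, H.Normal := fun H => ⟨fun x hx g => by
    obtain ⟨k, hk⟩ := mem_zpowers_iff.1 (hd g g.2 x x.2)
    have : g * x * g⁻¹ = x ^ k := Subtype.ext (by push_cast; exact hk.symm)
    rw [this]
    exact zpow_mem hx k⟩
  obtain ⟨-, x, y, h1, h2, h3⟩ := Hamiltonian.q8_of_not_commute hn (a := (⟨a, ha⟩ : R)) (b := ⟨b, hb⟩)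
    (p := 2) (hR.exists_orderOf_eq_pow _) (hR.exists_orderOf_eq_pow _)
    (fun e => hab (congrArg Subtype.val e.eq))
  exact ⟨x, y, x.2, y.2, by rw [Subgroup.orderOf_coe, h1], congrArg Subtype.val h2, congrArg Subtype.val h3⟩

/-- a 2-element has at most one involution among its powers -/
theorem unique_involution {a s t : G} (hs : s ∈ zpowers a) (ht : t ∈ zpowers a)
    (hs2 : orderOf s = 2) (ht2 : orderOf t = 2) : s = t := by
  have key : ∀ w ∈ zpowers a, orderOf w = 2 → w = a ^ (orderOf a / 2) := by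
    intro w hw hw2
    obtain ⟨k, rfl⟩ := mem_powers_iff_mem_zpowers.2 hw
    have hd : 2 ∣ orderOf a := hw2 ▸ orderOf_dvd_of_mem_zpowers hw
    have h2 : (a ^ k) ^ 2 = 1 := hw2 ▸ pow_orderOf_eq_one (a ^ k)
    rw [← pow_mul, ← orderOf_dvd_iff_pow_eq_one] at h2
    obtain ⟨m, hm⟩ := hd
    obtain ⟨e, he⟩ : m ∣ k := Nat.dvd_of_mul_dvd_mul_left two_pos (by rw [← hm, mul_comm 2 k]; exact h2)
    show a ^ k = a ^ (orderOf a / 2)
    rw [hm, Nat.mul_div_cancel_left _ two_pos]
    rcases Nat.even_or_odd' e with ⟨f, rfl | rfl⟩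
    · exfalso
      have : a ^ k = 1 := by
        rw [← orderOf_dvd_iff_pow_eq_one, hm, he]
        exact ⟨f, by ring⟩
      simp only at hw2
      rw [this, orderOf_one] at hw2
      omega
    · rw [← pow_mod_orderOf a k, hm, he]
      congr 1
      rw [show m * (2 * f + 1) = m + 2 * m * f by ring, Nat.add_mul_mod_self_left, Nat.mod_eq_of_lt]
      have := orderOf_pos a
      omega
  rw [key s hs hs2, key t ht ht2]

theorem involution_eq_of_noncomm {R : Subgroup G} (hR : IsPGroup 2 R)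
    (hd : ∀ g ∈ R, ∀ x ∈ R, g * x * g⁻¹ ∈ zpowers x) {a b s t : G} (ha : a ∈ R) (hb : b ∈ R)
    (hab : ¬ Commute a b) (hs : s ∈ zpowers a) (ht : t ∈ zpowers b) (hs2 : orderOf s = 2)
    (ht2 : orderOf t = 2) : s = t := by
  haveI := Fact.mk Nat.prime_two
  set c := ⁅a, b⁆ with hc
  have hc1 : c ≠ 1 := fun e => hab (commutatorElement_eq_one_iff_mul_comm.1 e)
  have hcb : c ∈ zpowers b := by
    rw [hc, commutatorElement_def]
    exact mul_mem (hd a ha b hb) (inv_mem (mem_zpowers b))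
  have hca : c ∈ zpowers a := by
    rw [hc, commutatorElement_def, mul_assoc a, mul_assoc a]
    refine mul_mem (mem_zpowers a) ?_
    simpa [mul_assoc] using inv_mem (hd b hb a ha)
  obtain ⟨k, hk⟩ := hR.exists_orderOf_eq_pow ⟨c, (zpowers_le.2 ha) hca⟩
  rw [Subgroup.orderOf_mk] at hk
  have h2 : 2 ∣ orderOf c := by
    rw [hk]
    refine dvd_pow_self 2 fun e => hc1 ?_
    rw [e, pow_zero] at hk
    exact orderOf_eq_one_iff.1 hk
  set w := c ^ (orderOf c / 2) with hw
  have hw2 : orderOf w = 2 := orderOf_pow_orderOf_div (orderOf_pos c).ne' h2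
  exact (unique_involution hs (pow_mem hca _) hs2 hw2).trans (unique_involution (pow_mem hcb _) ht hw2 ht2)

theorem Pair.sq {R : Subgroup G} {x y : G} (h : Pair R x y) :
    orderOf (x * x) = 2 ∧ x * x ∈ zpowers y ∧ orderOf y = 4 ∧ ¬ Commute x y := by
  obtain ⟨-, -, hx, hsq, hinv⟩ := h
  have h2 : orderOf (x * x) = 2 := by
    rw [← pow_two, orderOf_pow' x two_ne_zero, hx]
    norm_num
  refine ⟨h2, hsq ▸ mul_mem (mem_zpowers y) (mem_zpowers y), ?_, fun e => ?_⟩
  · have hy2 : orderOf (y ^ 2) = 2 := by rw [pow_two, hsq, h2]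
    have h4 : y ^ (2 ^ (1 + 1)) = 1 := by
      have := pow_orderOf_eq_one (y ^ 2)
      rw [hy2, ← pow_mul] at this
      exact this
    haveI := Fact.mk Nat.prime_two
    refine orderOf_eq_prime_pow (p := 2) (n := 1) (fun e => ?_) h4
    rw [pow_one] at e
    rw [e, orderOf_one] at hy2
    omega
  · rw [← e.eq, mul_inv_cancel_right] at hinv
    have : x * x = 1 := by nth_rewrite 1 [hinv]; exact inv_mul_cancel x
    rw [this, orderOf_one] at h2
    omega

theorem squares_eq {R : Subgroup G} (hR : IsPGroup 2 R)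
    (hd : ∀ g ∈ R, ∀ x ∈ R, g * x * g⁻¹ ∈ zpowers x) {x y x' y' : G} (h : Pair R x y)
    (h' : Pair R x' y') : x * x = x' * x' := by
  obtain ⟨ht, hty, -, hxy⟩ := h.sq
  obtain ⟨ht', hty', -, hxy'⟩ := h'.sq
  have htx : x * x ∈ zpowers x := mul_mem (mem_zpowers x) (mem_zpowers x)
  have htx' : x' * x' ∈ zpowers x' := mul_mem (mem_zpowers x') (mem_zpowers x')
  have key := fun {a b : G} (ha : a ∈ R) (hb : b ∈ R) (hab : ¬ Commute a b) (hs : x * x ∈ zpowers a)
    (hu : x' * x' ∈ zpowers b) => involution_eq_of_noncomm hR hd ha hb hab hs hu ht ht'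
  by_cases c1 : Commute x x'
  swap
  · exact key h.1 h'.1 c1 htx htx'
  by_cases c2 : Commute x y'
  swap
  · exact key h.1 h'.2.1 c2 htx hty'
  by_cases c3 : Commute y x'
  swap
  · exact key h.2.1 h'.1 c3 hty htx'
  have hwR : x * x' ∈ R := mul_mem h.1 h'.1
  have hwy : ¬ Commute (x * x') y := fun e => hxy (by simpa using e.mul_left c3.symm.inv_left)
  have hwy' : ¬ Commute (x * x') y' := fun e => hxy' (by simpa using (c2.inv_left).mul_left e)
  haveI := Fact.mk Nat.prime_two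
  obtain ⟨k, hk⟩ := hR.exists_orderOf_eq_pow ⟨x * x', hwR⟩
  rw [Subgroup.orderOf_mk] at hk
  have h2 : 2 ∣ orderOf (x * x') := by
    rw [hk]
    refine dvd_pow_self 2 fun e => hwy ?_
    rw [e, pow_zero] at hk
    rw [orderOf_eq_one_iff.1 hk]
    exact Commute.one_left y
  set w := (x * x') ^ (orderOf (x * x') / 2)
  have hw2 : orderOf w = 2 := orderOf_pow_orderOf_div (orderOf_pos _).ne' h2
  have hwm : w ∈ zpowers (x * x') := pow_mem (mem_zpowers _) _
  exact (involution_eq_of_noncomm hR hd hwR h.2.1 hwy hwm hty hw2 ht).symm.trans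
    (involution_eq_of_noncomm hR hd hwR h'.2.1 hwy' hwm hty' hw2 ht')

theorem pair_conj {R : Subgroup G} {x y g : G} (h : Pair R x y) (hg : g ∈ nrm R) :
    Pair R (g * x * g⁻¹) (g * y * g⁻¹) := by
  obtain ⟨hx, hy, ho, hsq, hinv⟩ := h
  refine ⟨conj_mem_of_mem_nrm hg hx, conj_mem_of_mem_nrm hg hy, ?_, ?_, ?_⟩
  · exact (orderOf_injective (MulAut.conj g).toMonoidHom (MulAut.conj g).injective x).trans ho
  · rw [conj_mul, hsq, conj_mul]
  · calc g * y * g⁻¹ * (g * x * g⁻¹) * (g * y * g⁻¹)⁻¹ = g * (y * x * y⁻¹) * g⁻¹ := by group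
      _ = g * x⁻¹ * g⁻¹ := by rw [hinv]
      _ = _ := by group

/-- the square of a quaternion pair is fixed by the normalizer -/
theorem pair_fixed {R : Subgroup G} (hR : IsPGroup 2 R)
    (hd : ∀ g ∈ R, ∀ x ∈ R, g * x * g⁻¹ ∈ zpowers x) {x y g : G} (h : Pair R x y) (hg : g ∈ nrm R) :
    g * (x * x) * g⁻¹ = x * x := by
  rw [← conj_mul]
  exact squares_eq hR hd (pair_conj h hg) h

theorem involution_comm {R : Subgroup G} (hd : ∀ g ∈ R, ∀ x ∈ R, g * x * g⁻¹ ∈ zpowers x) {v g : G}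
    (hv : v ∈ R) (hv2 : orderOf v = 2) (hg : g ∈ R) : g * v * g⁻¹ = v := by
  rcases mem_zpowers_of_sq hv2 (hd g hg v hv) with e | e
  · rw [conj_eq_one_iff.1 e, orderOf_one] at hv2
    omega
  · exact e

namespace Hyp

variable (h : Hyp G)
include h

theorem eq_bot_of_odd {N : Subgroup G} (hN : N.Normal) (ho : Odd (Nat.card N)) : N = ⊥ :=
  h.rf N hN (OddOrderTheorem.solvable ho)

theorem center_eq_one {t : G} (ht : ∀ g : G, g * t * g⁻¹ = t) : t = 1 := by
  have hn : (zpowers t).Normal := ⟨fun x hx g => by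
    obtain ⟨k, rfl⟩ := mem_zpowers_iff.1 hx
    rw [← conj_zpow, ht]
    exact zpow_mem (mem_zpowers t) k⟩
  exact zpowers_eq_bot.1 (h.rf _ hn (Group.isSolvable_of_comm fun a b => IsMulCommutative.is_comm.comm a b))

/-- no involution is isolated -/
theorem exists_conj_ne {z : G} (hz : orderOf z = 2) (P : Sylow 2 G) (hzP : z ∈ (P : Subgroup G)) :
    ∃ g : G, g * z * g⁻¹ ∈ (P : Subgroup G) ∧ g * z * g⁻¹ ≠ z := by
  by_contra! hne
  obtain ⟨N, hN, ho, hc⟩ := S0215.result P z hz hzP hne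
  have hNb := h.eq_bot_of_odd hN ho
  have h1 : z = 1 := h.center_eq_one fun g => by
    have := mem_bot.1 (hNb ▸ hc g)
    rw [mul_inv_eq_one, mul_inv_eq_iff_eq_mul] at this
    rw [← this, mul_inv_cancel_right]
  rw [h1, orderOf_one] at hz
  omega

/-- a Sylow 2-subgroup in the centralizer of an involution commuting with an odd element is abelian -/
theorem sylow_comm {u y : G} (hu : orderOf u = 2) {p : ℕ} (hp : p.Prime) (hp2 : p ≠ 2)
    (hy : orderOf y = p) (hyc : Commute u y) (T : Sylow 2 G) (hT : (T : Subgroup G) ≤ cent u) :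
    IsMulCommutative (T : Subgroup G) := by
  haveI := Fact.mk Nat.prime_two
  have hd : ∀ g ∈ (T : Subgroup G), ∀ x ∈ (T : Subgroup G), g * x * g⁻¹ ∈ zpowers x :=
    fun g hg x hx => h.zpowers_conj_two hu hp hp2 hy hyc T.2 hT hg hx
  by_contra hne
  obtain ⟨a, ha, b, hb, hab⟩ : ∃ a ∈ (T : Subgroup G), ∃ b ∈ (T : Subgroup G), ¬ Commute a b := by
    by_contra! hc
    exact hne ⟨⟨fun a b => Subtype.ext (hc a a.2 b b.2).eq⟩⟩
  obtain ⟨x, y, hxy⟩ := exists_pair T.2 hd ha hb hab
  obtain ⟨ht, -, -, -⟩ := hxy.sq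
  set t := x * x
  have htT : t ∈ (T : Subgroup G) := mul_mem hxy.1 hxy.1
  obtain ⟨g, hgT, hgne⟩ := h.exists_conj_ne ht T htT
  have hcen : ∀ v ∈ (T : Subgroup G), orderOf v = 2 → v ∈ centralizer ((T : Subgroup G) : Set G) := by
    intro v hv hv2
    rw [mem_centralizer_iff]
    exact fun r hr => mul_inv_eq_iff_eq_mul.1 (involution_comm hd hv hv2 hr)
  have hv2 : orderOf (g * t * g⁻¹) = 2 :=
    (orderOf_injective (MulAut.conj g).toMonoidHom (MulAut.conj g).injective t).trans ht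
  obtain ⟨n, hn, he⟩ := Sylow.conj_eq_normalizer_conj_of_mem_centralizer T t g⁻¹ (hcen t htT ht)
    (by rw [inv_inv]; exact hcen _ hgT hv2)
  refine hgne ?_
  have h3 := pair_fixed T.2 hd hxy (inv_mem hn)
  rw [inv_inv] at he h3
  exact he.trans h3

end Hyp

end Cfsg.Agent.MaxNormalizers
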